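import Cfsg.Agent.Lib.Chev.Engine.Orbit
import Cfsg.Agent.Lib.Chev.Data.E6

/-! Orbit certificates of type E6. -/
set_option autoImplicit false
set_option maxRecDepth 100000
open Cfsg.Lie

namespace CfsgLib.Chev.Data.E6

open CfsgLib.Chev

/-- certificate -/
def cert : Orbit.Cert where
  base := [56]
  rootPath := [
    [1, 3, 4, 5, 2, 3, 4, 1, 3, 2, 0],
    [3, 4, 5, 2, 3, 4, 1, 3, 2, 0],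
    [4, 5, 2, 3, 4, 1, 3, 2, 0],
    [5, 2, 3, 4, 1, 3, 2, 0],
    [2, 3, 4, 1, 3, 2, 0],
    [4, 5, 3, 4, 1, 3, 2, 0],
    [5, 3, 4, 1, 3, 2, 0],
    [3, 4, 1, 3, 2, 0],
    [5, 4, 1, 3, 2, 0],
    [4, 1, 3, 2, 0],
    [1, 3, 2, 0],
    [5, 4, 3, 2, 0],
    [4, 3, 2, 0],
    [3, 2, 0],
    [2, 0],
    [0],
    [4, 5, 3, 4, 1, 3, 0, 2, 0],
    [5, 3, 4, 1, 3, 0, 2, 0],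
    [3, 4, 1, 3, 0, 2, 0],
    [5, 4, 1, 3, 0, 2, 0],
    [4, 1, 3, 0, 2, 0],
    [1, 3, 0, 2, 0],
    [5, 4, 2, 1, 3, 0, 2, 0],
    [4, 2, 1, 3, 0, 2, 0],
    [2, 1, 3, 0, 2, 0],
    [3, 2, 1, 3, 0, 2, 0],
    [5, 4, 3, 0, 2, 0],
    [4, 3, 0, 2, 0],
    [3, 0, 2, 0],
    [0, 2, 0],
    [5, 4, 2, 3, 0, 2, 0],
    [4, 2, 3, 0, 2, 0],
    [2, 3, 0, 2, 0],
    [5, 3, 4, 2, 3, 0, 2, 0],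
    [3, 4, 2, 3, 0, 2, 0],
    [4, 5, 3, 4, 2, 3, 0, 2, 0],
    [4, 5, 3, 4, 2, 3, 0, 2],
    [3, 4, 2, 3, 0, 2],
    [5, 3, 4, 2, 3, 0, 2],
    [2, 3, 0, 2],
    [4, 2, 3, 0, 2],
    [5, 4, 2, 3, 0, 2],
    [0, 2],
    [3, 0, 2],
    [4, 3, 0, 2],
    [5, 4, 3, 0, 2],
    [3, 2, 1, 3, 0, 2],
    [2, 1, 3, 0, 2],
    [4, 2, 1, 3, 0, 2],
    [5, 4, 2, 1, 3, 0, 2],
    [1, 3, 0, 2],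
    [4, 1, 3, 0, 2],
    [5, 4, 1, 3, 0, 2],
    [3, 4, 1, 3, 0, 2],
    [5, 3, 4, 1, 3, 0, 2],
    [4, 5, 3, 4, 1, 3, 0, 2],
    [],
    [2],
    [3, 2],
    [4, 3, 2],
    [5, 4, 3, 2],
    [1, 3, 2],
    [4, 1, 3, 2],
    [5, 4, 1, 3, 2],
    [3, 4, 1, 3, 2],
    [5, 3, 4, 1, 3, 2],
    [4, 5, 3, 4, 1, 3, 2],
    [2, 3, 4, 1, 3, 2],
    [5, 2, 3, 4, 1, 3, 2],
    [4, 5, 2, 3, 4, 1, 3, 2],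
    [3, 4, 5, 2, 3, 4, 1, 3, 2],
    [1, 3, 4, 5, 2, 3, 4, 1, 3, 2]]
  pairs := [(56, 0), (56, 5), (56, 16)]
  pairPath := [
    [
      [],
      [1],
      [3, 1],
      [4, 3, 1],
      [5, 4, 3, 1],
      [],
      [4],
      [5, 4],
      [3, 4],
      [5, 3, 4],
      [4, 5, 3, 4],
      [1, 3, 4],
      [5, 1, 3, 4],
      [4, 5, 1, 3, 4],
      [3, 4, 5, 1, 3, 4],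
      [],
      [],
      [4],
      [5, 4],
      [3, 4],
      [5, 3, 4],
      [4, 5, 3, 4],
      [2, 3, 0, 2, 1, 3, 4, 3, 2, 1, 3, 0, 2],
      [5, 2, 3, 0, 2, 1, 3, 4, 3, 2, 1, 3, 0, 2],
      [4, 5, 2, 3, 0, 2, 1, 3, 4, 3, 2, 1, 3, 0, 2],
      [3, 4, 5, 2, 3, 0, 2, 1, 3, 4, 3, 2, 1, 3, 0, 2],
      [1, 3, 4],
      [5, 1, 3, 4],
      [4, 5, 1, 3, 4],
      [3, 4, 5, 1, 3, 4],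
      [2, 3, 0, 2, 1, 3, 4, 3, 2, 1, 3, 0, 2, 1],
      [5, 2, 3, 0, 2, 1, 3, 4, 3, 2, 1, 3, 0, 2, 1],
      [4, 5, 2, 3, 0, 2, 1, 3, 4, 3, 2, 1, 3, 0, 2, 1],
      [2, 3, 0, 2, 1, 3, 4, 3, 0, 2, 1, 3, 0, 2, 1],
      [5, 2, 3, 0, 2, 1, 3, 4, 3, 0, 2, 1, 3, 0, 2, 1],
      [4, 2, 3, 0, 2, 1, 3, 4, 3, 0, 2, 1, 3, 0, 2, 1],
      [5, 4, 2, 3, 0, 2, 1, 3, 4, 3, 0, 2, 1, 3, 0, 2, 1],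
      [4, 5, 2, 3, 0, 2, 1, 3, 4, 3, 0, 2, 1, 3, 0, 2, 1],
      [4, 5, 4, 2, 3, 0, 2, 1, 3, 4, 3, 0, 2, 1, 3, 0, 2, 1],
      [3, 4, 5, 2, 3, 0, 2, 1, 3, 4, 3, 2, 1, 3, 0, 2, 1],
      [3, 4, 5, 2, 3, 0, 2, 1, 3, 4, 3, 0, 2, 1, 3, 0, 2, 1],
      [3, 4, 5, 4, 2, 3, 0, 2, 1, 3, 4, 3, 0, 2, 1, 3, 0, 2, 1],
      [2, 3, 0, 2, 1, 3, 4, 5, 3, 2, 1, 3, 4, 0, 2],
      [2, 3, 0, 2, 1, 3, 4, 5, 3, 0, 2, 1, 3, 4, 0, 2],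
      [4, 2, 3, 0, 2, 1, 3, 4, 5, 3, 0, 2, 1, 3, 4, 0, 2],
      [5, 4, 2, 3, 0, 2, 1, 3, 4, 5, 3, 0, 2, 1, 3, 4, 0, 2],
      [1, 3, 4, 5, 2, 3, 0, 2, 1, 3, 4, 3, 2, 1, 3, 0, 2],
      [1, 3, 4, 5, 2, 3, 0, 2, 1, 3, 4, 3, 2, 1, 3, 0, 2, 1],
      [1, 3, 4, 5, 2, 3, 0, 2, 1, 3, 4, 3, 0, 2, 1, 3, 0, 2, 1],
      [1, 3, 4, 5, 4, 2, 3, 0, 2, 1, 3, 4, 3, 0, 2, 1, 3, 0, 2, 1],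
      [2, 3, 0, 2, 1, 3, 4, 5, 2, 3, 0, 2, 1, 3, 4, 0, 2],
      [4, 2, 3, 0, 2, 1, 3, 4, 5, 2, 3, 0, 2, 1, 3, 4, 0, 2],
      [5, 4, 2, 3, 0, 2, 1, 3, 4, 5, 2, 3, 0, 2, 1, 3, 4, 0, 2],
      [3, 4, 2, 3, 0, 2, 1, 3, 4, 5, 2, 3, 0, 2, 1, 3, 4, 0, 2],
      [5, 3, 4, 2, 3, 0, 2, 1, 3, 4, 5, 2, 3, 0, 2, 1, 3, 4, 0, 2],
      [4, 5, 3, 4, 2, 3, 0, 2, 1, 3, 4, 5, 2, 3, 0, 2, 1, 3, 4, 0, 2],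
      [],
      [2, 3, 0, 2, 1, 3, 4, 5, 3, 2, 1, 3, 4, 0, 2],
      [2, 3, 0, 2, 1, 3, 4, 5, 3, 0, 2, 1, 3, 4, 0, 2],
      [4, 2, 3, 0, 2, 1, 3, 4, 5, 3, 0, 2, 1, 3, 4, 0, 2],
      [5, 4, 2, 3, 0, 2, 1, 3, 4, 5, 3, 0, 2, 1, 3, 4, 0, 2],
      [2, 3, 0, 2, 1, 3, 4, 5, 2, 3, 0, 2, 1, 3, 4, 0, 2],
      [4, 2, 3, 0, 2, 1, 3, 4, 5, 2, 3, 0, 2, 1, 3, 4, 0, 2],
      [5, 4, 2, 3, 0, 2, 1, 3, 4, 5, 2, 3, 0, 2, 1, 3, 4, 0, 2],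
      [3, 4, 2, 3, 0, 2, 1, 3, 4, 5, 2, 3, 0, 2, 1, 3, 4, 0, 2],
      [5, 3, 4, 2, 3, 0, 2, 1, 3, 4, 5, 2, 3, 0, 2, 1, 3, 4, 0, 2],
      [4, 5, 3, 4, 2, 3, 0, 2, 1, 3, 4, 5, 2, 3, 0, 2, 1, 3, 4, 0, 2],
      [2, 3, 0, 2, 1, 3, 4, 5, 3, 2, 1, 3, 4, 0, 2, 3, 1],
      [2, 3, 0, 2, 1, 3, 4, 5, 4, 3, 2, 1, 3, 4, 0, 2, 3, 1],
      [4, 2, 3, 0, 2, 1, 3, 4, 5, 4, 3, 2, 1, 3, 4, 0, 2, 3, 1],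
      [3, 4, 2, 3, 0, 2, 1, 3, 4, 5, 4, 3, 2, 1, 3, 4, 0, 2, 3, 1],
      [1, 3, 4, 2, 3, 0, 2, 1, 3, 4, 5, 4, 3, 2, 1, 3, 4, 0, 2, 3, 1]]]

theorem root_path_ok : Orbit.rootPathOK chevE6 tab cert = true := by decide +kernel

theorem pair_path_ok : Orbit.pairPathOK chevE6 tab cert = true := by decide +kernel

theorem add_ok : Orbit.addOK chevE6 tab cert = true := by decide +kernel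

theorem comm_ok : Orbit.commOK chevE6 tab cert = true := by decide +kernel

theorem validC : Orbit.ValidC chevE6 tab cert := ⟨root_path_ok, pair_path_ok, add_ok, comm_ok⟩

end CfsgLib.Chev.Data.E6
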