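import Cfsg.Agent.Lib.Chev.Weyl.Poincare

/-! Coset representatives of the parabolic chain of the Weyl group of type E7. -/
set_option autoImplicit false
set_option maxRecDepth 100000
open Cfsg.Lie

namespace CfsgLib.Chev.Data.E7

open CfsgLib.Chev

/-- representatives, level by level -/
def reps : List (List (List ℕ)) := [
    [[],
      [0]],
    [[],
      [1]],
    [[],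
      [2],
      [0, 2]],
    [[],
      [3],
      [1, 3],
      [2, 3],
      [2, 1, 3],
      [0, 2, 3],
      [0, 2, 1, 3],
      [3, 2, 1, 3],
      [3, 0, 2, 1, 3],
      [2, 3, 0, 2, 1, 3]],
    [[],
      [4],
      [3, 4],
      [1, 3, 4],
      [2, 3, 4],
      [2, 1, 3, 4],
      [0, 2, 3, 4],
      [0, 2, 1, 3, 4],
      [3, 2, 1, 3, 4],
      [3, 0, 2, 1, 3, 4],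
      [4, 3, 2, 1, 3, 4],
      [2, 3, 0, 2, 1, 3, 4],
      [4, 3, 0, 2, 1, 3, 4],
      [4, 2, 3, 0, 2, 1, 3, 4],
      [3, 4, 2, 3, 0, 2, 1, 3, 4],
      [1, 3, 4, 2, 3, 0, 2, 1, 3, 4]],
    [[],
      [5],
      [4, 5],
      [3, 4, 5],
      [1, 3, 4, 5],
      [2, 3, 4, 5],
      [2, 1, 3, 4, 5],
      [0, 2, 3, 4, 5],
      [0, 2, 1, 3, 4, 5],
      [3, 2, 1, 3, 4, 5],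
      [3, 0, 2, 1, 3, 4, 5],
      [4, 3, 2, 1, 3, 4, 5],
      [2, 3, 0, 2, 1, 3, 4, 5],
      [4, 3, 0, 2, 1, 3, 4, 5],
      [5, 4, 3, 2, 1, 3, 4, 5],
      [4, 2, 3, 0, 2, 1, 3, 4, 5],
      [5, 4, 3, 0, 2, 1, 3, 4, 5],
      [3, 4, 2, 3, 0, 2, 1, 3, 4, 5],
      [5, 4, 2, 3, 0, 2, 1, 3, 4, 5],
      [1, 3, 4, 2, 3, 0, 2, 1, 3, 4, 5],
      [5, 3, 4, 2, 3, 0, 2, 1, 3, 4, 5],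
      [5, 1, 3, 4, 2, 3, 0, 2, 1, 3, 4, 5],
      [4, 5, 3, 4, 2, 3, 0, 2, 1, 3, 4, 5],
      [4, 5, 1, 3, 4, 2, 3, 0, 2, 1, 3, 4, 5],
      [3, 4, 5, 1, 3, 4, 2, 3, 0, 2, 1, 3, 4, 5],
      [2, 3, 4, 5, 1, 3, 4, 2, 3, 0, 2, 1, 3, 4, 5],
      [0, 2, 3, 4, 5, 1, 3, 4, 2, 3, 0, 2, 1, 3, 4, 5]],
    [[],
      [6],
      [5, 6],
      [4, 5, 6],
      [3, 4, 5, 6],
      [1, 3, 4, 5, 6],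
      [2, 3, 4, 5, 6],
      [2, 1, 3, 4, 5, 6],
      [0, 2, 3, 4, 5, 6],
      [0, 2, 1, 3, 4, 5, 6],
      [3, 2, 1, 3, 4, 5, 6],
      [3, 0, 2, 1, 3, 4, 5, 6],
      [4, 3, 2, 1, 3, 4, 5, 6],
      [2, 3, 0, 2, 1, 3, 4, 5, 6],
      [4, 3, 0, 2, 1, 3, 4, 5, 6],
      [5, 4, 3, 2, 1, 3, 4, 5, 6],
      [4, 2, 3, 0, 2, 1, 3, 4, 5, 6],
      [5, 4, 3, 0, 2, 1, 3, 4, 5, 6],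
      [6, 5, 4, 3, 2, 1, 3, 4, 5, 6],
      [3, 4, 2, 3, 0, 2, 1, 3, 4, 5, 6],
      [5, 4, 2, 3, 0, 2, 1, 3, 4, 5, 6],
      [6, 5, 4, 3, 0, 2, 1, 3, 4, 5, 6],
      [1, 3, 4, 2, 3, 0, 2, 1, 3, 4, 5, 6],
      [5, 3, 4, 2, 3, 0, 2, 1, 3, 4, 5, 6],
      [6, 5, 4, 2, 3, 0, 2, 1, 3, 4, 5, 6],
      [5, 1, 3, 4, 2, 3, 0, 2, 1, 3, 4, 5, 6],
      [4, 5, 3, 4, 2, 3, 0, 2, 1, 3, 4, 5, 6],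
      [6, 5, 3, 4, 2, 3, 0, 2, 1, 3, 4, 5, 6],
      [4, 5, 1, 3, 4, 2, 3, 0, 2, 1, 3, 4, 5, 6],
      [6, 5, 1, 3, 4, 2, 3, 0, 2, 1, 3, 4, 5, 6],
      [6, 4, 5, 3, 4, 2, 3, 0, 2, 1, 3, 4, 5, 6],
      [3, 4, 5, 1, 3, 4, 2, 3, 0, 2, 1, 3, 4, 5, 6],
      [6, 4, 5, 1, 3, 4, 2, 3, 0, 2, 1, 3, 4, 5, 6],
      [5, 6, 4, 5, 3, 4, 2, 3, 0, 2, 1, 3, 4, 5, 6],
      [2, 3, 4, 5, 1, 3, 4, 2, 3, 0, 2, 1, 3, 4, 5, 6],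
      [6, 3, 4, 5, 1, 3, 4, 2, 3, 0, 2, 1, 3, 4, 5, 6],
      [5, 6, 4, 5, 1, 3, 4, 2, 3, 0, 2, 1, 3, 4, 5, 6],
      [0, 2, 3, 4, 5, 1, 3, 4, 2, 3, 0, 2, 1, 3, 4, 5, 6],
      [6, 2, 3, 4, 5, 1, 3, 4, 2, 3, 0, 2, 1, 3, 4, 5, 6],
      [5, 6, 3, 4, 5, 1, 3, 4, 2, 3, 0, 2, 1, 3, 4, 5, 6],
      [6, 0, 2, 3, 4, 5, 1, 3, 4, 2, 3, 0, 2, 1, 3, 4, 5, 6],
      [5, 6, 2, 3, 4, 5, 1, 3, 4, 2, 3, 0, 2, 1, 3, 4, 5, 6],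
      [4, 5, 6, 3, 4, 5, 1, 3, 4, 2, 3, 0, 2, 1, 3, 4, 5, 6],
      [5, 6, 0, 2, 3, 4, 5, 1, 3, 4, 2, 3, 0, 2, 1, 3, 4, 5, 6],
      [4, 5, 6, 2, 3, 4, 5, 1, 3, 4, 2, 3, 0, 2, 1, 3, 4, 5, 6],
      [4, 5, 6, 0, 2, 3, 4, 5, 1, 3, 4, 2, 3, 0, 2, 1, 3, 4, 5, 6],
      [3, 4, 5, 6, 2, 3, 4, 5, 1, 3, 4, 2, 3, 0, 2, 1, 3, 4, 5, 6],
      [3, 4, 5, 6, 0, 2, 3, 4, 5, 1, 3, 4, 2, 3, 0, 2, 1, 3, 4, 5, 6],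
      [1, 3, 4, 5, 6, 2, 3, 4, 5, 1, 3, 4, 2, 3, 0, 2, 1, 3, 4, 5, 6],
      [1, 3, 4, 5, 6, 0, 2, 3, 4, 5, 1, 3, 4, 2, 3, 0, 2, 1, 3, 4, 5, 6],
      [2, 3, 4, 5, 6, 0, 2, 3, 4, 5, 1, 3, 4, 2, 3, 0, 2, 1, 3, 4, 5, 6],
      [2, 1, 3, 4, 5, 6, 0, 2, 3, 4, 5, 1, 3, 4, 2, 3, 0, 2, 1, 3, 4, 5, 6],
      [3, 2, 1, 3, 4, 5, 6, 0, 2, 3, 4, 5, 1, 3, 4, 2, 3, 0, 2, 1, 3, 4, 5, 6],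
      [4, 3, 2, 1, 3, 4, 5, 6, 0, 2, 3, 4, 5, 1, 3, 4, 2, 3, 0, 2, 1, 3, 4, 5, 6],
      [5, 4, 3, 2, 1, 3, 4, 5, 6, 0, 2, 3, 4, 5, 1, 3, 4, 2, 3, 0, 2, 1, 3, 4, 5, 6],
      [6, 5, 4, 3, 2, 1, 3, 4, 5, 6, 0, 2, 3, 4, 5, 1, 3, 4, 2, 3, 0, 2, 1, 3, 4, 5, 6]]]

theorem weyl_ok : Weyl.weylOK chevE7 tab rvT reps = true := by decide +kernel

end CfsgLib.Chev.Data.E7
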