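import Cfsg.Agent.Lib.Chev.Engine.Orbit
import Cfsg.Agent.Lib.Chev.Data.E8

/-! Orbit certificates of type E8. -/
set_option autoImplicit false
set_option maxRecDepth 100000
open Cfsg.Lie

namespace CfsgLib.Chev.Data.E8

open CfsgLib.Chev

/-- certificate -/
def cert : Orbit.Cert where
  base := [162]
  rootPath := [
    [7, 6, 5, 4, 3, 2, 1, 3, 4, 5, 6, 7, 0, 2, 3, 4, 5, 6, 1, 3, 4, 5, 2, 3, 4, 1, 3, 2, 0],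
    [6, 5, 4, 3, 2, 1, 3, 4, 5, 6, 7, 0, 2, 3, 4, 5, 6, 1, 3, 4, 5, 2, 3, 4, 1, 3, 2, 0],
    [5, 4, 3, 2, 1, 3, 4, 5, 6, 7, 0, 2, 3, 4, 5, 6, 1, 3, 4, 5, 2, 3, 4, 1, 3, 2, 0],
    [4, 3, 2, 1, 3, 4, 5, 6, 7, 0, 2, 3, 4, 5, 6, 1, 3, 4, 5, 2, 3, 4, 1, 3, 2, 0],
    [3, 2, 1, 3, 4, 5, 6, 7, 0, 2, 3, 4, 5, 6, 1, 3, 4, 5, 2, 3, 4, 1, 3, 2, 0],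
    [2, 1, 3, 4, 5, 6, 7, 0, 2, 3, 4, 5, 6, 1, 3, 4, 5, 2, 3, 4, 1, 3, 2, 0],
    [1, 3, 4, 5, 6, 7, 0, 2, 3, 4, 5, 6, 1, 3, 4, 5, 2, 3, 4, 1, 3, 2, 0],
    [2, 3, 4, 5, 6, 7, 0, 2, 3, 4, 5, 6, 1, 3, 4, 5, 2, 3, 4, 1, 3, 2, 0],
    [3, 4, 5, 6, 7, 0, 2, 3, 4, 5, 6, 1, 3, 4, 5, 2, 3, 4, 1, 3, 2, 0],
    [4, 5, 6, 7, 0, 2, 3, 4, 5, 6, 1, 3, 4, 5, 2, 3, 4, 1, 3, 2, 0],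
    [5, 6, 7, 0, 2, 3, 4, 5, 6, 1, 3, 4, 5, 2, 3, 4, 1, 3, 2, 0],
    [6, 7, 0, 2, 3, 4, 5, 6, 1, 3, 4, 5, 2, 3, 4, 1, 3, 2, 0],
    [7, 0, 2, 3, 4, 5, 6, 1, 3, 4, 5, 2, 3, 4, 1, 3, 2, 0],
    [0, 2, 3, 4, 5, 6, 1, 3, 4, 5, 2, 3, 4, 1, 3, 2, 0],
    [1, 3, 4, 5, 6, 7, 2, 3, 4, 5, 6, 1, 3, 4, 5, 2, 3, 4, 1, 3, 2, 0],
    [3, 4, 5, 6, 7, 2, 3, 4, 5, 6, 1, 3, 4, 5, 2, 3, 4, 1, 3, 2, 0],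
    [4, 5, 6, 7, 2, 3, 4, 5, 6, 1, 3, 4, 5, 2, 3, 4, 1, 3, 2, 0],
    [5, 6, 7, 2, 3, 4, 5, 6, 1, 3, 4, 5, 2, 3, 4, 1, 3, 2, 0],
    [6, 7, 2, 3, 4, 5, 6, 1, 3, 4, 5, 2, 3, 4, 1, 3, 2, 0],
    [7, 2, 3, 4, 5, 6, 1, 3, 4, 5, 2, 3, 4, 1, 3, 2, 0],
    [2, 3, 4, 5, 6, 1, 3, 4, 5, 2, 3, 4, 1, 3, 2, 0],
    [4, 5, 6, 7, 3, 4, 5, 6, 1, 3, 4, 5, 2, 3, 4, 1, 3, 2, 0],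
    [5, 6, 7, 3, 4, 5, 6, 1, 3, 4, 5, 2, 3, 4, 1, 3, 2, 0],
    [6, 7, 3, 4, 5, 6, 1, 3, 4, 5, 2, 3, 4, 1, 3, 2, 0],
    [7, 3, 4, 5, 6, 1, 3, 4, 5, 2, 3, 4, 1, 3, 2, 0],
    [3, 4, 5, 6, 1, 3, 4, 5, 2, 3, 4, 1, 3, 2, 0],
    [5, 6, 7, 4, 5, 6, 1, 3, 4, 5, 2, 3, 4, 1, 3, 2, 0],
    [6, 7, 4, 5, 6, 1, 3, 4, 5, 2, 3, 4, 1, 3, 2, 0],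
    [7, 4, 5, 6, 1, 3, 4, 5, 2, 3, 4, 1, 3, 2, 0],
    [4, 5, 6, 1, 3, 4, 5, 2, 3, 4, 1, 3, 2, 0],
    [6, 7, 5, 6, 1, 3, 4, 5, 2, 3, 4, 1, 3, 2, 0],
    [7, 5, 6, 1, 3, 4, 5, 2, 3, 4, 1, 3, 2, 0],
    [5, 6, 1, 3, 4, 5, 2, 3, 4, 1, 3, 2, 0],
    [7, 6, 1, 3, 4, 5, 2, 3, 4, 1, 3, 2, 0],
    [6, 1, 3, 4, 5, 2, 3, 4, 1, 3, 2, 0],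
    [1, 3, 4, 5, 2, 3, 4, 1, 3, 2, 0],
    [5, 6, 7, 4, 5, 6, 3, 4, 5, 2, 3, 4, 1, 3, 2, 0],
    [6, 7, 4, 5, 6, 3, 4, 5, 2, 3, 4, 1, 3, 2, 0],
    [7, 4, 5, 6, 3, 4, 5, 2, 3, 4, 1, 3, 2, 0],
    [4, 5, 6, 3, 4, 5, 2, 3, 4, 1, 3, 2, 0],
    [6, 7, 5, 6, 3, 4, 5, 2, 3, 4, 1, 3, 2, 0],
    [7, 5, 6, 3, 4, 5, 2, 3, 4, 1, 3, 2, 0],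
    [5, 6, 3, 4, 5, 2, 3, 4, 1, 3, 2, 0],
    [7, 6, 3, 4, 5, 2, 3, 4, 1, 3, 2, 0],
    [6, 3, 4, 5, 2, 3, 4, 1, 3, 2, 0],
    [3, 4, 5, 2, 3, 4, 1, 3, 2, 0],
    [6, 7, 5, 6, 4, 5, 2, 3, 4, 1, 3, 2, 0],
    [7, 5, 6, 4, 5, 2, 3, 4, 1, 3, 2, 0],
    [5, 6, 4, 5, 2, 3, 4, 1, 3, 2, 0],
    [7, 6, 4, 5, 2, 3, 4, 1, 3, 2, 0],
    [6, 4, 5, 2, 3, 4, 1, 3, 2, 0],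
    [4, 5, 2, 3, 4, 1, 3, 2, 0],
    [7, 6, 5, 2, 3, 4, 1, 3, 2, 0],
    [6, 5, 2, 3, 4, 1, 3, 2, 0],
    [5, 2, 3, 4, 1, 3, 2, 0],
    [2, 3, 4, 1, 3, 2, 0],
    [6, 7, 5, 6, 4, 5, 3, 4, 1, 3, 2, 0],
    [7, 5, 6, 4, 5, 3, 4, 1, 3, 2, 0],
    [5, 6, 4, 5, 3, 4, 1, 3, 2, 0],
    [7, 6, 4, 5, 3, 4, 1, 3, 2, 0],
    [6, 4, 5, 3, 4, 1, 3, 2, 0],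
    [4, 5, 3, 4, 1, 3, 2, 0],
    [7, 6, 5, 3, 4, 1, 3, 2, 0],
    [6, 5, 3, 4, 1, 3, 2, 0],
    [5, 3, 4, 1, 3, 2, 0],
    [3, 4, 1, 3, 2, 0],
    [7, 6, 5, 4, 1, 3, 2, 0],
    [6, 5, 4, 1, 3, 2, 0],
    [5, 4, 1, 3, 2, 0],
    [4, 1, 3, 2, 0],
    [1, 3, 2, 0],
    [7, 6, 5, 4, 3, 2, 0],
    [6, 5, 4, 3, 2, 0],
    [5, 4, 3, 2, 0],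
    [4, 3, 2, 0],
    [3, 2, 0],
    [2, 0],
    [0],
    [6, 7, 5, 6, 4, 5, 3, 4, 1, 3, 0, 2, 0],
    [7, 5, 6, 4, 5, 3, 4, 1, 3, 0, 2, 0],
    [5, 6, 4, 5, 3, 4, 1, 3, 0, 2, 0],
    [7, 6, 4, 5, 3, 4, 1, 3, 0, 2, 0],
    [6, 4, 5, 3, 4, 1, 3, 0, 2, 0],
    [4, 5, 3, 4, 1, 3, 0, 2, 0],
    [7, 6, 5, 3, 4, 1, 3, 0, 2, 0],
    [6, 5, 3, 4, 1, 3, 0, 2, 0],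
    [5, 3, 4, 1, 3, 0, 2, 0],
    [3, 4, 1, 3, 0, 2, 0],
    [7, 6, 5, 4, 1, 3, 0, 2, 0],
    [6, 5, 4, 1, 3, 0, 2, 0],
    [5, 4, 1, 3, 0, 2, 0],
    [4, 1, 3, 0, 2, 0],
    [1, 3, 0, 2, 0],
    [7, 6, 5, 4, 2, 1, 3, 0, 2, 0],
    [6, 5, 4, 2, 1, 3, 0, 2, 0],
    [5, 4, 2, 1, 3, 0, 2, 0],
    [4, 2, 1, 3, 0, 2, 0],
    [2, 1, 3, 0, 2, 0],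
    [3, 2, 1, 3, 0, 2, 0],
    [7, 6, 5, 4, 3, 0, 2, 0],
    [6, 5, 4, 3, 0, 2, 0],
    [5, 4, 3, 0, 2, 0],
    [4, 3, 0, 2, 0],
    [3, 0, 2, 0],
    [0, 2, 0],
    [7, 6, 5, 4, 2, 3, 0, 2, 0],
    [6, 5, 4, 2, 3, 0, 2, 0],
    [5, 4, 2, 3, 0, 2, 0],
    [4, 2, 3, 0, 2, 0],
    [2, 3, 0, 2, 0],
    [7, 6, 5, 3, 4, 2, 3, 0, 2, 0],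
    [6, 5, 3, 4, 2, 3, 0, 2, 0],
    [5, 3, 4, 2, 3, 0, 2, 0],
    [3, 4, 2, 3, 0, 2, 0],
    [7, 6, 4, 5, 3, 4, 2, 3, 0, 2, 0],
    [6, 4, 5, 3, 4, 2, 3, 0, 2, 0],
    [4, 5, 3, 4, 2, 3, 0, 2, 0],
    [7, 5, 6, 4, 5, 3, 4, 2, 3, 0, 2, 0],
    [5, 6, 4, 5, 3, 4, 2, 3, 0, 2, 0],
    [6, 7, 5, 6, 4, 5, 3, 4, 2, 3, 0, 2, 0],
    [6, 7, 5, 6, 4, 5, 3, 4, 2, 3, 0, 2],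
    [5, 6, 4, 5, 3, 4, 2, 3, 0, 2],
    [7, 5, 6, 4, 5, 3, 4, 2, 3, 0, 2],
    [4, 5, 3, 4, 2, 3, 0, 2],
    [6, 4, 5, 3, 4, 2, 3, 0, 2],
    [7, 6, 4, 5, 3, 4, 2, 3, 0, 2],
    [3, 4, 2, 3, 0, 2],
    [5, 3, 4, 2, 3, 0, 2],
    [6, 5, 3, 4, 2, 3, 0, 2],
    [7, 6, 5, 3, 4, 2, 3, 0, 2],
    [2, 3, 0, 2],
    [4, 2, 3, 0, 2],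
    [5, 4, 2, 3, 0, 2],
    [6, 5, 4, 2, 3, 0, 2],
    [7, 6, 5, 4, 2, 3, 0, 2],
    [0, 2],
    [3, 0, 2],
    [4, 3, 0, 2],
    [5, 4, 3, 0, 2],
    [6, 5, 4, 3, 0, 2],
    [7, 6, 5, 4, 3, 0, 2],
    [3, 2, 1, 3, 0, 2],
    [2, 1, 3, 0, 2],
    [4, 2, 1, 3, 0, 2],
    [5, 4, 2, 1, 3, 0, 2],
    [6, 5, 4, 2, 1, 3, 0, 2],
    [7, 6, 5, 4, 2, 1, 3, 0, 2],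
    [1, 3, 0, 2],
    [4, 1, 3, 0, 2],
    [5, 4, 1, 3, 0, 2],
    [6, 5, 4, 1, 3, 0, 2],
    [7, 6, 5, 4, 1, 3, 0, 2],
    [3, 4, 1, 3, 0, 2],
    [5, 3, 4, 1, 3, 0, 2],
    [6, 5, 3, 4, 1, 3, 0, 2],
    [7, 6, 5, 3, 4, 1, 3, 0, 2],
    [4, 5, 3, 4, 1, 3, 0, 2],
    [6, 4, 5, 3, 4, 1, 3, 0, 2],
    [7, 6, 4, 5, 3, 4, 1, 3, 0, 2],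
    [5, 6, 4, 5, 3, 4, 1, 3, 0, 2],
    [7, 5, 6, 4, 5, 3, 4, 1, 3, 0, 2],
    [6, 7, 5, 6, 4, 5, 3, 4, 1, 3, 0, 2],
    [],
    [2],
    [3, 2],
    [4, 3, 2],
    [5, 4, 3, 2],
    [6, 5, 4, 3, 2],
    [7, 6, 5, 4, 3, 2],
    [1, 3, 2],
    [4, 1, 3, 2],
    [5, 4, 1, 3, 2],
    [6, 5, 4, 1, 3, 2],
    [7, 6, 5, 4, 1, 3, 2],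
    [3, 4, 1, 3, 2],
    [5, 3, 4, 1, 3, 2],
    [6, 5, 3, 4, 1, 3, 2],
    [7, 6, 5, 3, 4, 1, 3, 2],
    [4, 5, 3, 4, 1, 3, 2],
    [6, 4, 5, 3, 4, 1, 3, 2],
    [7, 6, 4, 5, 3, 4, 1, 3, 2],
    [5, 6, 4, 5, 3, 4, 1, 3, 2],
    [7, 5, 6, 4, 5, 3, 4, 1, 3, 2],
    [6, 7, 5, 6, 4, 5, 3, 4, 1, 3, 2],
    [2, 3, 4, 1, 3, 2],
    [5, 2, 3, 4, 1, 3, 2],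
    [6, 5, 2, 3, 4, 1, 3, 2],
    [7, 6, 5, 2, 3, 4, 1, 3, 2],
    [4, 5, 2, 3, 4, 1, 3, 2],
    [6, 4, 5, 2, 3, 4, 1, 3, 2],
    [7, 6, 4, 5, 2, 3, 4, 1, 3, 2],
    [5, 6, 4, 5, 2, 3, 4, 1, 3, 2],
    [7, 5, 6, 4, 5, 2, 3, 4, 1, 3, 2],
    [6, 7, 5, 6, 4, 5, 2, 3, 4, 1, 3, 2],
    [3, 4, 5, 2, 3, 4, 1, 3, 2],
    [6, 3, 4, 5, 2, 3, 4, 1, 3, 2],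
    [7, 6, 3, 4, 5, 2, 3, 4, 1, 3, 2],
    [5, 6, 3, 4, 5, 2, 3, 4, 1, 3, 2],
    [7, 5, 6, 3, 4, 5, 2, 3, 4, 1, 3, 2],
    [6, 7, 5, 6, 3, 4, 5, 2, 3, 4, 1, 3, 2],
    [4, 5, 6, 3, 4, 5, 2, 3, 4, 1, 3, 2],
    [7, 4, 5, 6, 3, 4, 5, 2, 3, 4, 1, 3, 2],
    [6, 7, 4, 5, 6, 3, 4, 5, 2, 3, 4, 1, 3, 2],
    [5, 6, 7, 4, 5, 6, 3, 4, 5, 2, 3, 4, 1, 3, 2],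
    [1, 3, 4, 5, 2, 3, 4, 1, 3, 2],
    [6, 1, 3, 4, 5, 2, 3, 4, 1, 3, 2],
    [7, 6, 1, 3, 4, 5, 2, 3, 4, 1, 3, 2],
    [5, 6, 1, 3, 4, 5, 2, 3, 4, 1, 3, 2],
    [7, 5, 6, 1, 3, 4, 5, 2, 3, 4, 1, 3, 2],
    [6, 7, 5, 6, 1, 3, 4, 5, 2, 3, 4, 1, 3, 2],
    [4, 5, 6, 1, 3, 4, 5, 2, 3, 4, 1, 3, 2],
    [7, 4, 5, 6, 1, 3, 4, 5, 2, 3, 4, 1, 3, 2],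
    [6, 7, 4, 5, 6, 1, 3, 4, 5, 2, 3, 4, 1, 3, 2],
    [5, 6, 7, 4, 5, 6, 1, 3, 4, 5, 2, 3, 4, 1, 3, 2],
    [3, 4, 5, 6, 1, 3, 4, 5, 2, 3, 4, 1, 3, 2],
    [7, 3, 4, 5, 6, 1, 3, 4, 5, 2, 3, 4, 1, 3, 2],
    [6, 7, 3, 4, 5, 6, 1, 3, 4, 5, 2, 3, 4, 1, 3, 2],
    [5, 6, 7, 3, 4, 5, 6, 1, 3, 4, 5, 2, 3, 4, 1, 3, 2],
    [4, 5, 6, 7, 3, 4, 5, 6, 1, 3, 4, 5, 2, 3, 4, 1, 3, 2],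
    [2, 3, 4, 5, 6, 1, 3, 4, 5, 2, 3, 4, 1, 3, 2],
    [7, 2, 3, 4, 5, 6, 1, 3, 4, 5, 2, 3, 4, 1, 3, 2],
    [6, 7, 2, 3, 4, 5, 6, 1, 3, 4, 5, 2, 3, 4, 1, 3, 2],
    [5, 6, 7, 2, 3, 4, 5, 6, 1, 3, 4, 5, 2, 3, 4, 1, 3, 2],
    [4, 5, 6, 7, 2, 3, 4, 5, 6, 1, 3, 4, 5, 2, 3, 4, 1, 3, 2],
    [3, 4, 5, 6, 7, 2, 3, 4, 5, 6, 1, 3, 4, 5, 2, 3, 4, 1, 3, 2],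
    [1, 3, 4, 5, 6, 7, 2, 3, 4, 5, 6, 1, 3, 4, 5, 2, 3, 4, 1, 3, 2],
    [0, 2, 3, 4, 5, 6, 1, 3, 4, 5, 2, 3, 4, 1, 3, 2],
    [7, 0, 2, 3, 4, 5, 6, 1, 3, 4, 5, 2, 3, 4, 1, 3, 2],
    [6, 7, 0, 2, 3, 4, 5, 6, 1, 3, 4, 5, 2, 3, 4, 1, 3, 2],
    [5, 6, 7, 0, 2, 3, 4, 5, 6, 1, 3, 4, 5, 2, 3, 4, 1, 3, 2],
    [4, 5, 6, 7, 0, 2, 3, 4, 5, 6, 1, 3, 4, 5, 2, 3, 4, 1, 3, 2],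
    [3, 4, 5, 6, 7, 0, 2, 3, 4, 5, 6, 1, 3, 4, 5, 2, 3, 4, 1, 3, 2],
    [2, 3, 4, 5, 6, 7, 0, 2, 3, 4, 5, 6, 1, 3, 4, 5, 2, 3, 4, 1, 3, 2],
    [1, 3, 4, 5, 6, 7, 0, 2, 3, 4, 5, 6, 1, 3, 4, 5, 2, 3, 4, 1, 3, 2],
    [2, 1, 3, 4, 5, 6, 7, 0, 2, 3, 4, 5, 6, 1, 3, 4, 5, 2, 3, 4, 1, 3, 2],
    [3, 2, 1, 3, 4, 5, 6, 7, 0, 2, 3, 4, 5, 6, 1, 3, 4, 5, 2, 3, 4, 1, 3, 2],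
    [4, 3, 2, 1, 3, 4, 5, 6, 7, 0, 2, 3, 4, 5, 6, 1, 3, 4, 5, 2, 3, 4, 1, 3, 2],
    [5, 4, 3, 2, 1, 3, 4, 5, 6, 7, 0, 2, 3, 4, 5, 6, 1, 3, 4, 5, 2, 3, 4, 1, 3, 2],
    [6, 5, 4, 3, 2, 1, 3, 4, 5, 6, 7, 0, 2, 3, 4, 5, 6, 1, 3, 4, 5, 2, 3, 4, 1, 3, 2],
    [7, 6, 5, 4, 3, 2, 1, 3, 4, 5, 6, 7, 0, 2, 3, 4, 5, 6, 1, 3, 4, 5, 2, 3, 4, 1, 3, 2]]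
  pairs := [(162, 0), (162, 6), (162, 14)]
  pairPath := [
    [
      [],
      [7],
      [6, 7],
      [5, 6, 7],
      [4, 5, 6, 7],
      [3, 4, 5, 6, 7],
      [],
      [1, 3, 4, 5, 6, 7],
      [1],
      [3, 1],
      [4, 3, 1],
      [5, 4, 3, 1],
      [6, 5, 4, 3, 1],
      [7, 6, 5, 4, 3, 1],
      [],
      [1],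
      [3, 1],
      [4, 3, 1],
      [5, 4, 3, 1],
      [6, 5, 4, 3, 1],
      [7, 6, 5, 4, 3, 1],
      [2, 3, 0, 2, 1, 3, 4, 5, 6, 7, 3, 2, 1, 3, 0, 2],
      [4, 2, 3, 0, 2, 1, 3, 4, 5, 6, 7, 3, 2, 1, 3, 0, 2],
      [5, 4, 2, 3, 0, 2, 1, 3, 4, 5, 6, 7, 3, 2, 1, 3, 0, 2],
      [6, 5, 4, 2, 3, 0, 2, 1, 3, 4, 5, 6, 7, 3, 2, 1, 3, 0, 2],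
      [7, 6, 5, 4, 2, 3, 0, 2, 1, 3, 4, 5, 6, 7, 3, 2, 1, 3, 0, 2],
      [3, 4, 2, 3, 0, 2, 1, 3, 4, 5, 6, 7, 3, 2, 1, 3, 0, 2],
      [5, 3, 4, 2, 3, 0, 2, 1, 3, 4, 5, 6, 7, 3, 2, 1, 3, 0, 2],
      [6, 5, 3, 4, 2, 3, 0, 2, 1, 3, 4, 5, 6, 7, 3, 2, 1, 3, 0, 2],
      [7, 6, 5, 3, 4, 2, 3, 0, 2, 1, 3, 4, 5, 6, 7, 3, 2, 1, 3, 0, 2],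
      [4, 5, 3, 4, 2, 3, 0, 2, 1, 3, 4, 5, 6, 7, 3, 2, 1, 3, 0, 2],
      [6, 4, 5, 3, 4, 2, 3, 0, 2, 1, 3, 4, 5, 6, 7, 3, 2, 1, 3, 0, 2],
      [7, 6, 4, 5, 3, 4, 2, 3, 0, 2, 1, 3, 4, 5, 6, 7, 3, 2, 1, 3, 0, 2],
      [5, 6, 4, 5, 3, 4, 2, 3, 0, 2, 1, 3, 4, 5, 6, 7, 3, 2, 1, 3, 0, 2],
      [7, 5, 6, 4, 5, 3, 4, 2, 3, 0, 2, 1, 3, 4, 5, 6, 7, 3, 2, 1, 3, 0, 2],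
      [6, 7, 5, 6, 4, 5, 3, 4, 2, 3, 0, 2, 1, 3, 4, 5, 6, 7, 3, 2, 1, 3, 0, 2],
      [1, 3, 4, 2, 3, 0, 2, 1, 3, 4, 5, 6, 7, 3, 2, 1, 3, 0, 2],
      [5, 1, 3, 4, 2, 3, 0, 2, 1, 3, 4, 5, 6, 7, 3, 2, 1, 3, 0, 2],
      [6, 5, 1, 3, 4, 2, 3, 0, 2, 1, 3, 4, 5, 6, 7, 3, 2, 1, 3, 0, 2],
      [7, 6, 5, 1, 3, 4, 2, 3, 0, 2, 1, 3, 4, 5, 6, 7, 3, 2, 1, 3, 0, 2],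
      [4, 5, 1, 3, 4, 2, 3, 0, 2, 1, 3, 4, 5, 6, 7, 3, 2, 1, 3, 0, 2],
      [6, 4, 5, 1, 3, 4, 2, 3, 0, 2, 1, 3, 4, 5, 6, 7, 3, 2, 1, 3, 0, 2],
      [7, 6, 4, 5, 1, 3, 4, 2, 3, 0, 2, 1, 3, 4, 5, 6, 7, 3, 2, 1, 3, 0, 2],
      [5, 6, 4, 5, 1, 3, 4, 2, 3, 0, 2, 1, 3, 4, 5, 6, 7, 3, 2, 1, 3, 0, 2],
      [7, 5, 6, 4, 5, 1, 3, 4, 2, 3, 0, 2, 1, 3, 4, 5, 6, 7, 3, 2, 1, 3, 0, 2],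
      [6, 7, 5, 6, 4, 5, 1, 3, 4, 2, 3, 0, 2, 1, 3, 4, 5, 6, 7, 3, 2, 1, 3, 0, 2],
      [3, 4, 5, 1, 3, 4, 2, 3, 0, 2, 1, 3, 4, 5, 6, 7, 3, 2, 1, 3, 0, 2],
      [6, 3, 4, 5, 1, 3, 4, 2, 3, 0, 2, 1, 3, 4, 5, 6, 7, 3, 2, 1, 3, 0, 2],
      [7, 6, 3, 4, 5, 1, 3, 4, 2, 3, 0, 2, 1, 3, 4, 5, 6, 7, 3, 2, 1, 3, 0, 2],
      [5, 6, 3, 4, 5, 1, 3, 4, 2, 3, 0, 2, 1, 3, 4, 5, 6, 7, 3, 2, 1, 3, 0, 2],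
      [7, 5, 6, 3, 4, 5, 1, 3, 4, 2, 3, 0, 2, 1, 3, 4, 5, 6, 7, 3, 2, 1, 3, 0, 2],
      [6, 7, 5, 6, 3, 4, 5, 1, 3, 4, 2, 3, 0, 2, 1, 3, 4, 5, 6, 7, 3, 2, 1, 3, 0, 2],
      [4, 5, 6, 3, 4, 5, 1, 3, 4, 2, 3, 0, 2, 1, 3, 4, 5, 6, 7, 3, 2, 1, 3, 0, 2],
      [7, 4, 5, 6, 3, 4, 5, 1, 3, 4, 2, 3, 0, 2, 1, 3, 4, 5, 6, 7, 3, 2, 1, 3, 0, 2],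
      [6, 7, 4, 5, 6, 3, 4, 5, 1, 3, 4, 2, 3, 0, 2, 1, 3, 4, 5, 6, 7, 3, 2, 1, 3, 0, 2],
      [5, 6, 7, 4, 5, 6, 3, 4, 5, 1, 3, 4, 2, 3, 0, 2, 1, 3, 4, 5, 6, 7, 3, 2, 1, 3, 0, 2],
      [2, 3, 0, 2, 1, 3, 4, 5, 3, 2, 1, 3, 4, 0, 2, 3, 1],
      [6, 2, 3, 0, 2, 1, 3, 4, 5, 3, 2, 1, 3, 4, 0, 2, 3, 1],
      [7, 6, 2, 3, 0, 2, 1, 3, 4, 5, 3, 2, 1, 3, 4, 0, 2, 3, 1],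
      [5, 6, 2, 3, 0, 2, 1, 3, 4, 5, 3, 2, 1, 3, 4, 0, 2, 3, 1],
      [7, 5, 6, 2, 3, 0, 2, 1, 3, 4, 5, 3, 2, 1, 3, 4, 0, 2, 3, 1],
      [6, 7, 5, 6, 2, 3, 0, 2, 1, 3, 4, 5, 3, 2, 1, 3, 4, 0, 2, 3, 1],
      [4, 5, 6, 2, 3, 0, 2, 1, 3, 4, 5, 3, 2, 1, 3, 4, 0, 2, 3, 1],
      [7, 4, 5, 6, 2, 3, 0, 2, 1, 3, 4, 5, 3, 2, 1, 3, 4, 0, 2, 3, 1],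
      [6, 7, 4, 5, 6, 2, 3, 0, 2, 1, 3, 4, 5, 3, 2, 1, 3, 4, 0, 2, 3, 1],
      [5, 6, 7, 4, 5, 6, 2, 3, 0, 2, 1, 3, 4, 5, 3, 2, 1, 3, 4, 0, 2, 3, 1],
      [3, 4, 5, 6, 2, 3, 0, 2, 1, 3, 4, 5, 3, 2, 1, 3, 4, 0, 2, 3, 1],
      [7, 3, 4, 5, 6, 2, 3, 0, 2, 1, 3, 4, 5, 3, 2, 1, 3, 4, 0, 2, 3, 1],
      [6, 7, 3, 4, 5, 6, 2, 3, 0, 2, 1, 3, 4, 5, 3, 2, 1, 3, 4, 0, 2, 3, 1],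
      [5, 6, 7, 3, 4, 5, 6, 2, 3, 0, 2, 1, 3, 4, 5, 3, 2, 1, 3, 4, 0, 2, 3, 1],
      [4, 5, 6, 7, 3, 4, 5, 6, 2, 3, 0, 2, 1, 3, 4, 5, 3, 2, 1, 3, 4, 0, 2, 3, 1],
      [1, 3, 4, 5, 6, 2, 3, 0, 2, 1, 3, 4, 5, 3, 2, 1, 3, 4, 0, 2, 3, 1],
      [7, 1, 3, 4, 5, 6, 2, 3, 0, 2, 1, 3, 4, 5, 3, 2, 1, 3, 4, 0, 2, 3, 1],
      [6, 7, 1, 3, 4, 5, 6, 2, 3, 0, 2, 1, 3, 4, 5, 3, 2, 1, 3, 4, 0, 2, 3, 1],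
      [5, 6, 7, 1, 3, 4, 5, 6, 2, 3, 0, 2, 1, 3, 4, 5, 3, 2, 1, 3, 4, 0, 2, 3, 1],
      [4, 5, 6, 7, 1, 3, 4, 5, 6, 2, 3, 0, 2, 1, 3, 4, 5, 3, 2, 1, 3, 4, 0, 2, 3, 1],
      [3, 4, 5, 6, 7, 1, 3, 4, 5, 6, 2, 3, 0, 2, 1, 3, 4, 5, 3, 2, 1, 3, 4, 0, 2, 3, 1],
      [],
      [2, 3, 0, 2, 1, 3, 4, 5, 3, 2, 1, 3, 4, 0, 2, 3, 1],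
      [6, 2, 3, 0, 2, 1, 3, 4, 5, 3, 2, 1, 3, 4, 0, 2, 3, 1],
      [7, 6, 2, 3, 0, 2, 1, 3, 4, 5, 3, 2, 1, 3, 4, 0, 2, 3, 1],
      [5, 6, 2, 3, 0, 2, 1, 3, 4, 5, 3, 2, 1, 3, 4, 0, 2, 3, 1],
      [7, 5, 6, 2, 3, 0, 2, 1, 3, 4, 5, 3, 2, 1, 3, 4, 0, 2, 3, 1],
      [6, 7, 5, 6, 2, 3, 0, 2, 1, 3, 4, 5, 3, 2, 1, 3, 4, 0, 2, 3, 1],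
      [4, 5, 6, 2, 3, 0, 2, 1, 3, 4, 5, 3, 2, 1, 3, 4, 0, 2, 3, 1],
      [7, 4, 5, 6, 2, 3, 0, 2, 1, 3, 4, 5, 3, 2, 1, 3, 4, 0, 2, 3, 1],
      [6, 7, 4, 5, 6, 2, 3, 0, 2, 1, 3, 4, 5, 3, 2, 1, 3, 4, 0, 2, 3, 1],
      [5, 6, 7, 4, 5, 6, 2, 3, 0, 2, 1, 3, 4, 5, 3, 2, 1, 3, 4, 0, 2, 3, 1],
      [3, 4, 5, 6, 2, 3, 0, 2, 1, 3, 4, 5, 3, 2, 1, 3, 4, 0, 2, 3, 1],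
      [7, 3, 4, 5, 6, 2, 3, 0, 2, 1, 3, 4, 5, 3, 2, 1, 3, 4, 0, 2, 3, 1],
      [6, 7, 3, 4, 5, 6, 2, 3, 0, 2, 1, 3, 4, 5, 3, 2, 1, 3, 4, 0, 2, 3, 1],
      [5, 6, 7, 3, 4, 5, 6, 2, 3, 0, 2, 1, 3, 4, 5, 3, 2, 1, 3, 4, 0, 2, 3, 1],
      [4, 5, 6, 7, 3, 4, 5, 6, 2, 3, 0, 2, 1, 3, 4, 5, 3, 2, 1, 3, 4, 0, 2, 3, 1],
      [2, 3, 4, 5, 6, 0, 2, 3, 4, 5, 1, 3, 4, 2, 3, 0, 2, 1, 3, 4, 5, 6, 7, 4, 5, 3, 4, 2, 3, 0, 2],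
      [7, 2, 3, 4, 5, 6, 0, 2, 3, 4, 5, 1, 3, 4, 2, 3, 0, 2, 1, 3, 4, 5, 6, 7, 4, 5, 3, 4, 2, 3, 0, 2],
      [6, 7, 2, 3, 4, 5, 6, 0, 2, 3, 4, 5, 1, 3, 4, 2, 3, 0, 2, 1, 3, 4, 5, 6, 7, 4, 5, 3, 4, 2, 3, 0, 2],
      [5, 6, 7, 2, 3, 4, 5, 6, 0, 2, 3, 4, 5, 1, 3, 4, 2, 3, 0, 2, 1, 3, 4, 5, 6, 7, 4, 5, 3, 4, 2, 3, 0, 2],
      [4, 5, 6, 7, 2, 3, 4, 5, 6, 0, 2, 3, 4, 5, 1, 3, 4, 2, 3, 0, 2, 1, 3, 4, 5, 6, 7, 4, 5, 3, 4, 2, 3, 0, 2],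
      [3, 4, 5, 6, 7, 2, 3, 4, 5, 6, 0, 2, 3, 4, 5, 1, 3, 4, 2, 3, 0, 2, 1, 3, 4, 5, 6, 7, 4, 5, 3, 4, 2, 3, 0, 2],
      [1, 3, 4, 5, 6, 2, 3, 0, 2, 1, 3, 4, 5, 3, 2, 1, 3, 4, 0, 2, 3, 1],
      [7, 1, 3, 4, 5, 6, 2, 3, 0, 2, 1, 3, 4, 5, 3, 2, 1, 3, 4, 0, 2, 3, 1],
      [6, 7, 1, 3, 4, 5, 6, 2, 3, 0, 2, 1, 3, 4, 5, 3, 2, 1, 3, 4, 0, 2, 3, 1],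
      [5, 6, 7, 1, 3, 4, 5, 6, 2, 3, 0, 2, 1, 3, 4, 5, 3, 2, 1, 3, 4, 0, 2, 3, 1],
      [4, 5, 6, 7, 1, 3, 4, 5, 6, 2, 3, 0, 2, 1, 3, 4, 5, 3, 2, 1, 3, 4, 0, 2, 3, 1],
      [3, 4, 5, 6, 7, 1, 3, 4, 5, 6, 2, 3, 0, 2, 1, 3, 4, 5, 3, 2, 1, 3, 4, 0, 2, 3, 1],
      [2, 1, 3, 4, 5, 6, 0, 2, 3, 4, 5, 1, 3, 4, 2, 3, 0, 2, 1, 3, 4, 5, 6, 7, 4, 5, 3, 4, 2, 3, 0, 2],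
      [7, 2, 1, 3, 4, 5, 6, 0, 2, 3, 4, 5, 1, 3, 4, 2, 3, 0, 2, 1, 3, 4, 5, 6, 7, 4, 5, 3, 4, 2, 3, 0, 2],
      [6, 7, 2, 1, 3, 4, 5, 6, 0, 2, 3, 4, 5, 1, 3, 4, 2, 3, 0, 2, 1, 3, 4, 5, 6, 7, 4, 5, 3, 4, 2, 3, 0, 2],
      [5, 6, 7, 2, 1, 3, 4, 5, 6, 0, 2, 3, 4, 5, 1, 3, 4, 2, 3, 0, 2, 1, 3, 4, 5, 6, 7, 4, 5, 3, 4, 2, 3, 0, 2],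
      [4, 5, 6, 7, 2, 1, 3, 4, 5, 6, 0, 2, 3, 4, 5, 1, 3, 4, 2, 3, 0, 2, 1, 3, 4, 5, 6, 7, 4, 5, 3, 4, 2, 3, 0, 2],
      [3, 2, 1, 3, 4, 5, 6, 0, 2, 3, 4, 5, 1, 3, 4, 2, 3, 0, 2, 1, 3, 4, 5, 6, 7, 4, 5, 3, 4, 2, 3, 0, 2],
      [7, 3, 2, 1, 3, 4, 5, 6, 0, 2, 3, 4, 5, 1, 3, 4, 2, 3, 0, 2, 1, 3, 4, 5, 6, 7, 4, 5, 3, 4, 2, 3, 0, 2],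
      [6, 7, 3, 2, 1, 3, 4, 5, 6, 0, 2, 3, 4, 5, 1, 3, 4, 2, 3, 0, 2, 1, 3, 4, 5, 6, 7, 4, 5, 3, 4, 2, 3, 0, 2],
      [5, 6, 7, 3, 2, 1, 3, 4, 5, 6, 0, 2, 3, 4, 5, 1, 3, 4, 2, 3, 0, 2, 1, 3, 4, 5, 6, 7, 4, 5, 3, 4, 2, 3, 0, 2],
      [4, 3, 2, 1, 3, 4, 5, 6, 0, 2, 3, 4, 5, 1, 3, 4, 2, 3, 0, 2, 1, 3, 4, 5, 6, 7, 4, 5, 3, 4, 2, 3, 0, 2],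
      [7, 4, 3, 2, 1, 3, 4, 5, 6, 0, 2, 3, 4, 5, 1, 3, 4, 2, 3, 0, 2, 1, 3, 4, 5, 6, 7, 4, 5, 3, 4, 2, 3, 0, 2],
      [6, 7, 4, 3, 2, 1, 3, 4, 5, 6, 0, 2, 3, 4, 5, 1, 3, 4, 2, 3, 0, 2, 1, 3, 4, 5, 6, 7, 4, 5, 3, 4, 2, 3, 0, 2],
      [5, 4, 3, 2, 1, 3, 4, 5, 6, 0, 2, 3, 4, 5, 1, 3, 4, 2, 3, 0, 2, 1, 3, 4, 5, 6, 7, 4, 5, 3, 4, 2, 3, 0, 2],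
      [7, 5, 4, 3, 2, 1, 3, 4, 5, 6, 0, 2, 3, 4, 5, 1, 3, 4, 2, 3, 0, 2, 1, 3, 4, 5, 6, 7, 4, 5, 3, 4, 2, 3, 0, 2],
      [6, 5, 4, 3, 2, 1, 3, 4, 5, 6, 0, 2, 3, 4, 5, 1, 3, 4, 2, 3, 0, 2, 1, 3, 4, 5, 6, 7, 4, 5, 3, 4, 2, 3, 0, 2],
      [7, 6, 5, 4, 3, 2, 1, 3, 4, 5, 6, 0, 2, 3, 4, 5, 1, 3, 4, 2, 3, 0, 2, 1, 3, 4, 5, 6, 7, 4, 5, 3, 4, 2, 3, 0, 2],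
      [6, 7, 5, 4, 3, 2, 1, 3, 4, 5, 6, 0, 2, 3, 4, 5, 1, 3, 4, 2, 3, 0, 2, 1, 3, 4, 5, 6, 7, 4, 5, 3, 4, 2, 3, 0, 2],
      [6, 7, 6, 5, 4, 3, 2, 1, 3, 4, 5, 6, 0, 2, 3, 4, 5, 1, 3, 4, 2, 3, 0, 2, 1, 3, 4, 5, 6, 7, 4, 5, 3, 4, 2, 3, 0, 2],
      [5, 6, 7, 4, 3, 2, 1, 3, 4, 5, 6, 0, 2, 3, 4, 5, 1, 3, 4, 2, 3, 0, 2, 1, 3, 4, 5, 6, 7, 4, 5, 3, 4, 2, 3, 0, 2],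
      [5, 6, 7, 5, 4, 3, 2, 1, 3, 4, 5, 6, 0, 2, 3, 4, 5, 1, 3, 4, 2, 3, 0, 2, 1, 3, 4, 5, 6, 7, 4, 5, 3, 4, 2, 3, 0, 2],
      [5, 6, 7, 6, 5, 4, 3, 2, 1, 3, 4, 5, 6, 0, 2, 3, 4, 5, 1, 3, 4, 2, 3, 0, 2, 1, 3, 4, 5, 6, 7, 4, 5, 3, 4, 2, 3, 0, 2],
      [4, 5, 6, 7, 3, 2, 1, 3, 4, 5, 6, 0, 2, 3, 4, 5, 1, 3, 4, 2, 3, 0, 2, 1, 3, 4, 5, 6, 7, 4, 5, 3, 4, 2, 3, 0, 2],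
      [4, 5, 6, 7, 4, 3, 2, 1, 3, 4, 5, 6, 0, 2, 3, 4, 5, 1, 3, 4, 2, 3, 0, 2, 1, 3, 4, 5, 6, 7, 4, 5, 3, 4, 2, 3, 0, 2],
      [4, 5, 6, 7, 5, 4, 3, 2, 1, 3, 4, 5, 6, 0, 2, 3, 4, 5, 1, 3, 4, 2, 3, 0, 2, 1, 3, 4, 5, 6, 7, 4, 5, 3, 4, 2, 3, 0, 2],
      [4, 5, 6, 7, 6, 5, 4, 3, 2, 1, 3, 4, 5, 6, 0, 2, 3, 4, 5, 1, 3, 4, 2, 3, 0, 2, 1, 3, 4, 5, 6, 7, 4, 5, 3, 4, 2, 3, 0, 2],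
      [3, 4, 5, 6, 7, 2, 1, 3, 4, 5, 6, 0, 2, 3, 4, 5, 1, 3, 4, 2, 3, 0, 2, 1, 3, 4, 5, 6, 7, 4, 5, 3, 4, 2, 3, 0, 2],
      [3, 4, 5, 6, 7, 3, 2, 1, 3, 4, 5, 6, 0, 2, 3, 4, 5, 1, 3, 4, 2, 3, 0, 2, 1, 3, 4, 5, 6, 7, 4, 5, 3, 4, 2, 3, 0, 2],
      [3, 4, 5, 6, 7, 4, 3, 2, 1, 3, 4, 5, 6, 0, 2, 3, 4, 5, 1, 3, 4, 2, 3, 0, 2, 1, 3, 4, 5, 6, 7, 4, 5, 3, 4, 2, 3, 0, 2],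
      [3, 4, 5, 6, 7, 5, 4, 3, 2, 1, 3, 4, 5, 6, 0, 2, 3, 4, 5, 1, 3, 4, 2, 3, 0, 2, 1, 3, 4, 5, 6, 7, 4, 5, 3, 4, 2, 3, 0, 2],
      [3, 4, 5, 6, 7, 6, 5, 4, 3, 2, 1, 3, 4, 5, 6, 0, 2, 3, 4, 5, 1, 3, 4, 2, 3, 0, 2, 1, 3, 4, 5, 6, 7, 4, 5, 3, 4, 2, 3, 0, 2],
      [2, 3, 0, 2, 1, 3, 4, 5, 6, 7, 3, 2, 1, 3, 4, 5, 6, 3, 2, 1, 3, 4, 5, 3, 2, 1, 3, 4, 0, 2, 3, 1],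
      [2, 3, 0, 2, 1, 3, 4, 5, 6, 7, 3, 0, 2, 1, 3, 4, 5, 6, 3, 2, 1, 3, 4, 5, 3, 2, 1, 3, 4, 0, 2, 3, 1],
      [4, 2, 3, 0, 2, 1, 3, 4, 5, 6, 7, 3, 0, 2, 1, 3, 4, 5, 6, 3, 2, 1, 3, 4, 5, 3, 2, 1, 3, 4, 0, 2, 3, 1],
      [5, 4, 2, 3, 0, 2, 1, 3, 4, 5, 6, 7, 3, 0, 2, 1, 3, 4, 5, 6, 3, 2, 1, 3, 4, 5, 3, 2, 1, 3, 4, 0, 2, 3, 1],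
      [6, 5, 4, 2, 3, 0, 2, 1, 3, 4, 5, 6, 7, 3, 0, 2, 1, 3, 4, 5, 6, 3, 2, 1, 3, 4, 5, 3, 2, 1, 3, 4, 0, 2, 3, 1],
      [7, 6, 5, 4, 2, 3, 0, 2, 1, 3, 4, 5, 6, 7, 3, 0, 2, 1, 3, 4, 5, 6, 3, 2, 1, 3, 4, 5, 3, 2, 1, 3, 4, 0, 2, 3, 1],
      [1, 3, 4, 5, 6, 7, 2, 3, 4, 5, 6, 0, 2, 3, 4, 5, 1, 3, 4, 2, 3, 0, 2, 1, 3, 4, 5, 6, 7, 4, 5, 3, 4, 2, 3, 0, 2],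
      [1, 3, 4, 5, 6, 7, 2, 1, 3, 4, 5, 6, 0, 2, 3, 4, 5, 1, 3, 4, 2, 3, 0, 2, 1, 3, 4, 5, 6, 7, 4, 5, 3, 4, 2, 3, 0, 2],
      [1, 3, 4, 5, 6, 7, 3, 2, 1, 3, 4, 5, 6, 0, 2, 3, 4, 5, 1, 3, 4, 2, 3, 0, 2, 1, 3, 4, 5, 6, 7, 4, 5, 3, 4, 2, 3, 0, 2],
      [1, 3, 4, 5, 6, 7, 4, 3, 2, 1, 3, 4, 5, 6, 0, 2, 3, 4, 5, 1, 3, 4, 2, 3, 0, 2, 1, 3, 4, 5, 6, 7, 4, 5, 3, 4, 2, 3, 0, 2],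
      [1, 3, 4, 5, 6, 7, 5, 4, 3, 2, 1, 3, 4, 5, 6, 0, 2, 3, 4, 5, 1, 3, 4, 2, 3, 0, 2, 1, 3, 4, 5, 6, 7, 4, 5, 3, 4, 2, 3, 0, 2],
      [1, 3, 4, 5, 6, 7, 6, 5, 4, 3, 2, 1, 3, 4, 5, 6, 0, 2, 3, 4, 5, 1, 3, 4, 2, 3, 0, 2, 1, 3, 4, 5, 6, 7, 4, 5, 3, 4, 2, 3, 0, 2],
      [2, 3, 0, 2, 1, 3, 4, 5, 6, 7, 2, 3, 0, 2, 1, 3, 4, 5, 6, 3, 2, 1, 3, 4, 5, 3, 2, 1, 3, 4, 0, 2, 3, 1],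
      [4, 2, 3, 0, 2, 1, 3, 4, 5, 6, 7, 2, 3, 0, 2, 1, 3, 4, 5, 6, 3, 2, 1, 3, 4, 5, 3, 2, 1, 3, 4, 0, 2, 3, 1],
      [5, 4, 2, 3, 0, 2, 1, 3, 4, 5, 6, 7, 2, 3, 0, 2, 1, 3, 4, 5, 6, 3, 2, 1, 3, 4, 5, 3, 2, 1, 3, 4, 0, 2, 3, 1],
      [6, 5, 4, 2, 3, 0, 2, 1, 3, 4, 5, 6, 7, 2, 3, 0, 2, 1, 3, 4, 5, 6, 3, 2, 1, 3, 4, 5, 3, 2, 1, 3, 4, 0, 2, 3, 1],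
      [7, 6, 5, 4, 2, 3, 0, 2, 1, 3, 4, 5, 6, 7, 2, 3, 0, 2, 1, 3, 4, 5, 6, 3, 2, 1, 3, 4, 5, 3, 2, 1, 3, 4, 0, 2, 3, 1],
      [3, 4, 2, 3, 0, 2, 1, 3, 4, 5, 6, 7, 2, 3, 0, 2, 1, 3, 4, 5, 6, 3, 2, 1, 3, 4, 5, 3, 2, 1, 3, 4, 0, 2, 3, 1],
      [5, 3, 4, 2, 3, 0, 2, 1, 3, 4, 5, 6, 7, 2, 3, 0, 2, 1, 3, 4, 5, 6, 3, 2, 1, 3, 4, 5, 3, 2, 1, 3, 4, 0, 2, 3, 1],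
      [6, 5, 3, 4, 2, 3, 0, 2, 1, 3, 4, 5, 6, 7, 2, 3, 0, 2, 1, 3, 4, 5, 6, 3, 2, 1, 3, 4, 5, 3, 2, 1, 3, 4, 0, 2, 3, 1],
      [7, 6, 5, 3, 4, 2, 3, 0, 2, 1, 3, 4, 5, 6, 7, 2, 3, 0, 2, 1, 3, 4, 5, 6, 3, 2, 1, 3, 4, 5, 3, 2, 1, 3, 4, 0, 2, 3, 1],
      [4, 5, 3, 4, 2, 3, 0, 2, 1, 3, 4, 5, 6, 7, 2, 3, 0, 2, 1, 3, 4, 5, 6, 3, 2, 1, 3, 4, 5, 3, 2, 1, 3, 4, 0, 2, 3, 1],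
      [6, 4, 5, 3, 4, 2, 3, 0, 2, 1, 3, 4, 5, 6, 7, 2, 3, 0, 2, 1, 3, 4, 5, 6, 3, 2, 1, 3, 4, 5, 3, 2, 1, 3, 4, 0, 2, 3, 1],
      [7, 6, 4, 5, 3, 4, 2, 3, 0, 2, 1, 3, 4, 5, 6, 7, 2, 3, 0, 2, 1, 3, 4, 5, 6, 3, 2, 1, 3, 4, 5, 3, 2, 1, 3, 4, 0, 2, 3, 1],
      [5, 6, 4, 5, 3, 4, 2, 3, 0, 2, 1, 3, 4, 5, 6, 7, 2, 3, 0, 2, 1, 3, 4, 5, 6, 3, 2, 1, 3, 4, 5, 3, 2, 1, 3, 4, 0, 2, 3, 1],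
      [7, 5, 6, 4, 5, 3, 4, 2, 3, 0, 2, 1, 3, 4, 5, 6, 7, 2, 3, 0, 2, 1, 3, 4, 5, 6, 3, 2, 1, 3, 4, 5, 3, 2, 1, 3, 4, 0, 2, 3, 1],
      [6, 7, 5, 6, 4, 5, 3, 4, 2, 3, 0, 2, 1, 3, 4, 5, 6, 7, 2, 3, 0, 2, 1, 3, 4, 5, 6, 3, 2, 1, 3, 4, 5, 3, 2, 1, 3, 4, 0, 2, 3, 1],
      [],
      [2, 3, 0, 2, 1, 3, 4, 5, 6, 7, 3, 2, 1, 3, 4, 5, 6, 3, 2, 1, 3, 4, 5, 3, 2, 1, 3, 4, 0, 2, 3, 1],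
      [2, 3, 0, 2, 1, 3, 4, 5, 6, 7, 3, 0, 2, 1, 3, 4, 5, 6, 3, 2, 1, 3, 4, 5, 3, 2, 1, 3, 4, 0, 2, 3, 1],
      [4, 2, 3, 0, 2, 1, 3, 4, 5, 6, 7, 3, 0, 2, 1, 3, 4, 5, 6, 3, 2, 1, 3, 4, 5, 3, 2, 1, 3, 4, 0, 2, 3, 1],
      [5, 4, 2, 3, 0, 2, 1, 3, 4, 5, 6, 7, 3, 0, 2, 1, 3, 4, 5, 6, 3, 2, 1, 3, 4, 5, 3, 2, 1, 3, 4, 0, 2, 3, 1],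
      [6, 5, 4, 2, 3, 0, 2, 1, 3, 4, 5, 6, 7, 3, 0, 2, 1, 3, 4, 5, 6, 3, 2, 1, 3, 4, 5, 3, 2, 1, 3, 4, 0, 2, 3, 1],
      [7, 6, 5, 4, 2, 3, 0, 2, 1, 3, 4, 5, 6, 7, 3, 0, 2, 1, 3, 4, 5, 6, 3, 2, 1, 3, 4, 5, 3, 2, 1, 3, 4, 0, 2, 3, 1],
      [2, 3, 0, 2, 1, 3, 4, 5, 6, 7, 2, 3, 0, 2, 1, 3, 4, 5, 6, 3, 2, 1, 3, 4, 5, 3, 2, 1, 3, 4, 0, 2, 3, 1],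
      [4, 2, 3, 0, 2, 1, 3, 4, 5, 6, 7, 2, 3, 0, 2, 1, 3, 4, 5, 6, 3, 2, 1, 3, 4, 5, 3, 2, 1, 3, 4, 0, 2, 3, 1],
      [5, 4, 2, 3, 0, 2, 1, 3, 4, 5, 6, 7, 2, 3, 0, 2, 1, 3, 4, 5, 6, 3, 2, 1, 3, 4, 5, 3, 2, 1, 3, 4, 0, 2, 3, 1],
      [6, 5, 4, 2, 3, 0, 2, 1, 3, 4, 5, 6, 7, 2, 3, 0, 2, 1, 3, 4, 5, 6, 3, 2, 1, 3, 4, 5, 3, 2, 1, 3, 4, 0, 2, 3, 1],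
      [7, 6, 5, 4, 2, 3, 0, 2, 1, 3, 4, 5, 6, 7, 2, 3, 0, 2, 1, 3, 4, 5, 6, 3, 2, 1, 3, 4, 5, 3, 2, 1, 3, 4, 0, 2, 3, 1],
      [3, 4, 2, 3, 0, 2, 1, 3, 4, 5, 6, 7, 2, 3, 0, 2, 1, 3, 4, 5, 6, 3, 2, 1, 3, 4, 5, 3, 2, 1, 3, 4, 0, 2, 3, 1],
      [5, 3, 4, 2, 3, 0, 2, 1, 3, 4, 5, 6, 7, 2, 3, 0, 2, 1, 3, 4, 5, 6, 3, 2, 1, 3, 4, 5, 3, 2, 1, 3, 4, 0, 2, 3, 1],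
      [6, 5, 3, 4, 2, 3, 0, 2, 1, 3, 4, 5, 6, 7, 2, 3, 0, 2, 1, 3, 4, 5, 6, 3, 2, 1, 3, 4, 5, 3, 2, 1, 3, 4, 0, 2, 3, 1],
      [7, 6, 5, 3, 4, 2, 3, 0, 2, 1, 3, 4, 5, 6, 7, 2, 3, 0, 2, 1, 3, 4, 5, 6, 3, 2, 1, 3, 4, 5, 3, 2, 1, 3, 4, 0, 2, 3, 1],
      [4, 5, 3, 4, 2, 3, 0, 2, 1, 3, 4, 5, 6, 7, 2, 3, 0, 2, 1, 3, 4, 5, 6, 3, 2, 1, 3, 4, 5, 3, 2, 1, 3, 4, 0, 2, 3, 1],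
      [6, 4, 5, 3, 4, 2, 3, 0, 2, 1, 3, 4, 5, 6, 7, 2, 3, 0, 2, 1, 3, 4, 5, 6, 3, 2, 1, 3, 4, 5, 3, 2, 1, 3, 4, 0, 2, 3, 1],
      [7, 6, 4, 5, 3, 4, 2, 3, 0, 2, 1, 3, 4, 5, 6, 7, 2, 3, 0, 2, 1, 3, 4, 5, 6, 3, 2, 1, 3, 4, 5, 3, 2, 1, 3, 4, 0, 2, 3, 1],
      [5, 6, 4, 5, 3, 4, 2, 3, 0, 2, 1, 3, 4, 5, 6, 7, 2, 3, 0, 2, 1, 3, 4, 5, 6, 3, 2, 1, 3, 4, 5, 3, 2, 1, 3, 4, 0, 2, 3, 1],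
      [7, 5, 6, 4, 5, 3, 4, 2, 3, 0, 2, 1, 3, 4, 5, 6, 7, 2, 3, 0, 2, 1, 3, 4, 5, 6, 3, 2, 1, 3, 4, 5, 3, 2, 1, 3, 4, 0, 2, 3, 1],
      [6, 7, 5, 6, 4, 5, 3, 4, 2, 3, 0, 2, 1, 3, 4, 5, 6, 7, 2, 3, 0, 2, 1, 3, 4, 5, 6, 3, 2, 1, 3, 4, 5, 3, 2, 1, 3, 4, 0, 2, 3, 1],
      [2, 3, 0, 2, 1, 3, 4, 5, 6, 7, 3, 2, 1, 3, 4, 5, 6, 0, 2, 3, 4, 5, 1, 3, 4, 2, 3, 0, 2, 1, 3, 4, 5, 6, 7, 3, 2, 1, 3, 0, 2],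
      [2, 3, 0, 2, 1, 3, 4, 5, 6, 7, 4, 3, 2, 1, 3, 4, 5, 6, 0, 2, 3, 4, 5, 1, 3, 4, 2, 3, 0, 2, 1, 3, 4, 5, 6, 7, 3, 2, 1, 3, 0, 2],
      [2, 3, 0, 2, 1, 3, 4, 5, 6, 7, 5, 4, 3, 2, 1, 3, 4, 5, 6, 0, 2, 3, 4, 5, 1, 3, 4, 2, 3, 0, 2, 1, 3, 4, 5, 6, 7, 3, 2, 1, 3, 0, 2],
      [2, 3, 0, 2, 1, 3, 4, 5, 6, 7, 6, 5, 4, 3, 2, 1, 3, 4, 5, 6, 0, 2, 3, 4, 5, 1, 3, 4, 2, 3, 0, 2, 1, 3, 4, 5, 6, 7, 3, 2, 1, 3, 0, 2],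
      [4, 2, 3, 0, 2, 1, 3, 4, 5, 6, 7, 4, 3, 2, 1, 3, 4, 5, 6, 0, 2, 3, 4, 5, 1, 3, 4, 2, 3, 0, 2, 1, 3, 4, 5, 6, 7, 3, 2, 1, 3, 0, 2],
      [4, 2, 3, 0, 2, 1, 3, 4, 5, 6, 7, 5, 4, 3, 2, 1, 3, 4, 5, 6, 0, 2, 3, 4, 5, 1, 3, 4, 2, 3, 0, 2, 1, 3, 4, 5, 6, 7, 3, 2, 1, 3, 0, 2],
      [4, 2, 3, 0, 2, 1, 3, 4, 5, 6, 7, 6, 5, 4, 3, 2, 1, 3, 4, 5, 6, 0, 2, 3, 4, 5, 1, 3, 4, 2, 3, 0, 2, 1, 3, 4, 5, 6, 7, 3, 2, 1, 3, 0, 2],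
      [5, 4, 2, 3, 0, 2, 1, 3, 4, 5, 6, 7, 5, 4, 3, 2, 1, 3, 4, 5, 6, 0, 2, 3, 4, 5, 1, 3, 4, 2, 3, 0, 2, 1, 3, 4, 5, 6, 7, 3, 2, 1, 3, 0, 2],
      [5, 4, 2, 3, 0, 2, 1, 3, 4, 5, 6, 7, 6, 5, 4, 3, 2, 1, 3, 4, 5, 6, 0, 2, 3, 4, 5, 1, 3, 4, 2, 3, 0, 2, 1, 3, 4, 5, 6, 7, 3, 2, 1, 3, 0, 2],
      [6, 5, 4, 2, 3, 0, 2, 1, 3, 4, 5, 6, 7, 6, 5, 4, 3, 2, 1, 3, 4, 5, 6, 0, 2, 3, 4, 5, 1, 3, 4, 2, 3, 0, 2, 1, 3, 4, 5, 6, 7, 3, 2, 1, 3, 0, 2],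
      [3, 4, 2, 3, 0, 2, 1, 3, 4, 5, 6, 7, 4, 3, 2, 1, 3, 4, 5, 6, 0, 2, 3, 4, 5, 1, 3, 4, 2, 3, 0, 2, 1, 3, 4, 5, 6, 7, 3, 2, 1, 3, 0, 2],
      [3, 4, 2, 3, 0, 2, 1, 3, 4, 5, 6, 7, 5, 4, 3, 2, 1, 3, 4, 5, 6, 0, 2, 3, 4, 5, 1, 3, 4, 2, 3, 0, 2, 1, 3, 4, 5, 6, 7, 3, 2, 1, 3, 0, 2],
      [3, 4, 2, 3, 0, 2, 1, 3, 4, 5, 6, 7, 6, 5, 4, 3, 2, 1, 3, 4, 5, 6, 0, 2, 3, 4, 5, 1, 3, 4, 2, 3, 0, 2, 1, 3, 4, 5, 6, 7, 3, 2, 1, 3, 0, 2],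
      [5, 3, 4, 2, 3, 0, 2, 1, 3, 4, 5, 6, 7, 5, 4, 3, 2, 1, 3, 4, 5, 6, 0, 2, 3, 4, 5, 1, 3, 4, 2, 3, 0, 2, 1, 3, 4, 5, 6, 7, 3, 2, 1, 3, 0, 2],
      [5, 3, 4, 2, 3, 0, 2, 1, 3, 4, 5, 6, 7, 6, 5, 4, 3, 2, 1, 3, 4, 5, 6, 0, 2, 3, 4, 5, 1, 3, 4, 2, 3, 0, 2, 1, 3, 4, 5, 6, 7, 3, 2, 1, 3, 0, 2],
      [6, 5, 3, 4, 2, 3, 0, 2, 1, 3, 4, 5, 6, 7, 6, 5, 4, 3, 2, 1, 3, 4, 5, 6, 0, 2, 3, 4, 5, 1, 3, 4, 2, 3, 0, 2, 1, 3, 4, 5, 6, 7, 3, 2, 1, 3, 0, 2],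
      [4, 5, 3, 4, 2, 3, 0, 2, 1, 3, 4, 5, 6, 7, 5, 4, 3, 2, 1, 3, 4, 5, 6, 0, 2, 3, 4, 5, 1, 3, 4, 2, 3, 0, 2, 1, 3, 4, 5, 6, 7, 3, 2, 1, 3, 0, 2],
      [4, 5, 3, 4, 2, 3, 0, 2, 1, 3, 4, 5, 6, 7, 6, 5, 4, 3, 2, 1, 3, 4, 5, 6, 0, 2, 3, 4, 5, 1, 3, 4, 2, 3, 0, 2, 1, 3, 4, 5, 6, 7, 3, 2, 1, 3, 0, 2],
      [6, 4, 5, 3, 4, 2, 3, 0, 2, 1, 3, 4, 5, 6, 7, 6, 5, 4, 3, 2, 1, 3, 4, 5, 6, 0, 2, 3, 4, 5, 1, 3, 4, 2, 3, 0, 2, 1, 3, 4, 5, 6, 7, 3, 2, 1, 3, 0, 2],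
      [5, 6, 4, 5, 3, 4, 2, 3, 0, 2, 1, 3, 4, 5, 6, 7, 6, 5, 4, 3, 2, 1, 3, 4, 5, 6, 0, 2, 3, 4, 5, 1, 3, 4, 2, 3, 0, 2, 1, 3, 4, 5, 6, 7, 3, 2, 1, 3, 0, 2],
      [1, 3, 4, 2, 3, 0, 2, 1, 3, 4, 5, 6, 7, 4, 3, 2, 1, 3, 4, 5, 6, 0, 2, 3, 4, 5, 1, 3, 4, 2, 3, 0, 2, 1, 3, 4, 5, 6, 7, 3, 2, 1, 3, 0, 2],
      [1, 3, 4, 2, 3, 0, 2, 1, 3, 4, 5, 6, 7, 5, 4, 3, 2, 1, 3, 4, 5, 6, 0, 2, 3, 4, 5, 1, 3, 4, 2, 3, 0, 2, 1, 3, 4, 5, 6, 7, 3, 2, 1, 3, 0, 2],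
      [1, 3, 4, 2, 3, 0, 2, 1, 3, 4, 5, 6, 7, 6, 5, 4, 3, 2, 1, 3, 4, 5, 6, 0, 2, 3, 4, 5, 1, 3, 4, 2, 3, 0, 2, 1, 3, 4, 5, 6, 7, 3, 2, 1, 3, 0, 2],
      [5, 1, 3, 4, 2, 3, 0, 2, 1, 3, 4, 5, 6, 7, 5, 4, 3, 2, 1, 3, 4, 5, 6, 0, 2, 3, 4, 5, 1, 3, 4, 2, 3, 0, 2, 1, 3, 4, 5, 6, 7, 3, 2, 1, 3, 0, 2],
      [5, 1, 3, 4, 2, 3, 0, 2, 1, 3, 4, 5, 6, 7, 6, 5, 4, 3, 2, 1, 3, 4, 5, 6, 0, 2, 3, 4, 5, 1, 3, 4, 2, 3, 0, 2, 1, 3, 4, 5, 6, 7, 3, 2, 1, 3, 0, 2],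
      [6, 5, 1, 3, 4, 2, 3, 0, 2, 1, 3, 4, 5, 6, 7, 6, 5, 4, 3, 2, 1, 3, 4, 5, 6, 0, 2, 3, 4, 5, 1, 3, 4, 2, 3, 0, 2, 1, 3, 4, 5, 6, 7, 3, 2, 1, 3, 0, 2],
      [4, 5, 1, 3, 4, 2, 3, 0, 2, 1, 3, 4, 5, 6, 7, 5, 4, 3, 2, 1, 3, 4, 5, 6, 0, 2, 3, 4, 5, 1, 3, 4, 2, 3, 0, 2, 1, 3, 4, 5, 6, 7, 3, 2, 1, 3, 0, 2],
      [4, 5, 1, 3, 4, 2, 3, 0, 2, 1, 3, 4, 5, 6, 7, 6, 5, 4, 3, 2, 1, 3, 4, 5, 6, 0, 2, 3, 4, 5, 1, 3, 4, 2, 3, 0, 2, 1, 3, 4, 5, 6, 7, 3, 2, 1, 3, 0, 2],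
      [6, 4, 5, 1, 3, 4, 2, 3, 0, 2, 1, 3, 4, 5, 6, 7, 6, 5, 4, 3, 2, 1, 3, 4, 5, 6, 0, 2, 3, 4, 5, 1, 3, 4, 2, 3, 0, 2, 1, 3, 4, 5, 6, 7, 3, 2, 1, 3, 0, 2],
      [5, 6, 4, 5, 1, 3, 4, 2, 3, 0, 2, 1, 3, 4, 5, 6, 7, 6, 5, 4, 3, 2, 1, 3, 4, 5, 6, 0, 2, 3, 4, 5, 1, 3, 4, 2, 3, 0, 2, 1, 3, 4, 5, 6, 7, 3, 2, 1, 3, 0, 2],
      [3, 4, 5, 1, 3, 4, 2, 3, 0, 2, 1, 3, 4, 5, 6, 7, 5, 4, 3, 2, 1, 3, 4, 5, 6, 0, 2, 3, 4, 5, 1, 3, 4, 2, 3, 0, 2, 1, 3, 4, 5, 6, 7, 3, 2, 1, 3, 0, 2],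
      [3, 4, 5, 1, 3, 4, 2, 3, 0, 2, 1, 3, 4, 5, 6, 7, 6, 5, 4, 3, 2, 1, 3, 4, 5, 6, 0, 2, 3, 4, 5, 1, 3, 4, 2, 3, 0, 2, 1, 3, 4, 5, 6, 7, 3, 2, 1, 3, 0, 2],
      [6, 3, 4, 5, 1, 3, 4, 2, 3, 0, 2, 1, 3, 4, 5, 6, 7, 6, 5, 4, 3, 2, 1, 3, 4, 5, 6, 0, 2, 3, 4, 5, 1, 3, 4, 2, 3, 0, 2, 1, 3, 4, 5, 6, 7, 3, 2, 1, 3, 0, 2],
      [5, 6, 3, 4, 5, 1, 3, 4, 2, 3, 0, 2, 1, 3, 4, 5, 6, 7, 6, 5, 4, 3, 2, 1, 3, 4, 5, 6, 0, 2, 3, 4, 5, 1, 3, 4, 2, 3, 0, 2, 1, 3, 4, 5, 6, 7, 3, 2, 1, 3, 0, 2],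
      [4, 5, 6, 3, 4, 5, 1, 3, 4, 2, 3, 0, 2, 1, 3, 4, 5, 6, 7, 6, 5, 4, 3, 2, 1, 3, 4, 5, 6, 0, 2, 3, 4, 5, 1, 3, 4, 2, 3, 0, 2, 1, 3, 4, 5, 6, 7, 3, 2, 1, 3, 0, 2],
      [2, 3, 4, 5, 6, 0, 2, 3, 4, 5, 1, 3, 4, 2, 3, 0, 2, 1, 3, 4, 5, 6, 7, 4, 5, 3, 4, 2, 3, 0, 2, 1, 3, 4, 5, 6, 2, 3, 0, 2, 1, 3, 4, 5, 3, 2, 1, 3, 4, 0, 2, 3, 1],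
      [7, 2, 3, 4, 5, 6, 0, 2, 3, 4, 5, 1, 3, 4, 2, 3, 0, 2, 1, 3, 4, 5, 6, 7, 4, 5, 3, 4, 2, 3, 0, 2, 1, 3, 4, 5, 6, 2, 3, 0, 2, 1, 3, 4, 5, 3, 2, 1, 3, 4, 0, 2, 3, 1],
      [6, 7, 2, 3, 4, 5, 6, 0, 2, 3, 4, 5, 1, 3, 4, 2, 3, 0, 2, 1, 3, 4, 5, 6, 7, 4, 5, 3, 4, 2, 3, 0, 2, 1, 3, 4, 5, 6, 2, 3, 0, 2, 1, 3, 4, 5, 3, 2, 1, 3, 4, 0, 2, 3, 1],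
      [5, 6, 7, 2, 3, 4, 5, 6, 0, 2, 3, 4, 5, 1, 3, 4, 2, 3, 0, 2, 1, 3, 4, 5, 6, 7, 4, 5, 3, 4, 2, 3, 0, 2, 1, 3, 4, 5, 6, 2, 3, 0, 2, 1, 3, 4, 5, 3, 2, 1, 3, 4, 0, 2, 3, 1],
      [4, 5, 6, 7, 2, 3, 4, 5, 6, 0, 2, 3, 4, 5, 1, 3, 4, 2, 3, 0, 2, 1, 3, 4, 5, 6, 7, 4, 5, 3, 4, 2, 3, 0, 2, 1, 3, 4, 5, 6, 2, 3, 0, 2, 1, 3, 4, 5, 3, 2, 1, 3, 4, 0, 2, 3, 1],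
      [3, 4, 5, 6, 7, 2, 3, 4, 5, 6, 0, 2, 3, 4, 5, 1, 3, 4, 2, 3, 0, 2, 1, 3, 4, 5, 6, 7, 4, 5, 3, 4, 2, 3, 0, 2, 1, 3, 4, 5, 6, 2, 3, 0, 2, 1, 3, 4, 5, 3, 2, 1, 3, 4, 0, 2, 3, 1],
      [1, 3, 4, 5, 6, 7, 2, 3, 4, 5, 6, 0, 2, 3, 4, 5, 1, 3, 4, 2, 3, 0, 2, 1, 3, 4, 5, 6, 7, 4, 5, 3, 4, 2, 3, 0, 2, 1, 3, 4, 5, 6, 2, 3, 0, 2, 1, 3, 4, 5, 3, 2, 1, 3, 4, 0, 2, 3, 1],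
      [2, 3, 4, 5, 6, 0, 2, 3, 4, 5, 1, 3, 4, 2, 3, 0, 2, 1, 3, 4, 5, 6, 7, 4, 5, 3, 4, 2, 3, 0, 2, 1, 3, 4, 5, 6, 2, 3, 0, 2, 1, 3, 4, 5, 3, 2, 1, 3, 4, 0, 2, 3, 1],
      [7, 2, 3, 4, 5, 6, 0, 2, 3, 4, 5, 1, 3, 4, 2, 3, 0, 2, 1, 3, 4, 5, 6, 7, 4, 5, 3, 4, 2, 3, 0, 2, 1, 3, 4, 5, 6, 2, 3, 0, 2, 1, 3, 4, 5, 3, 2, 1, 3, 4, 0, 2, 3, 1],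
      [6, 7, 2, 3, 4, 5, 6, 0, 2, 3, 4, 5, 1, 3, 4, 2, 3, 0, 2, 1, 3, 4, 5, 6, 7, 4, 5, 3, 4, 2, 3, 0, 2, 1, 3, 4, 5, 6, 2, 3, 0, 2, 1, 3, 4, 5, 3, 2, 1, 3, 4, 0, 2, 3, 1],
      [5, 6, 7, 2, 3, 4, 5, 6, 0, 2, 3, 4, 5, 1, 3, 4, 2, 3, 0, 2, 1, 3, 4, 5, 6, 7, 4, 5, 3, 4, 2, 3, 0, 2, 1, 3, 4, 5, 6, 2, 3, 0, 2, 1, 3, 4, 5, 3, 2, 1, 3, 4, 0, 2, 3, 1],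
      [4, 5, 6, 7, 2, 3, 4, 5, 6, 0, 2, 3, 4, 5, 1, 3, 4, 2, 3, 0, 2, 1, 3, 4, 5, 6, 7, 4, 5, 3, 4, 2, 3, 0, 2, 1, 3, 4, 5, 6, 2, 3, 0, 2, 1, 3, 4, 5, 3, 2, 1, 3, 4, 0, 2, 3, 1],
      [3, 4, 5, 6, 7, 2, 3, 4, 5, 6, 0, 2, 3, 4, 5, 1, 3, 4, 2, 3, 0, 2, 1, 3, 4, 5, 6, 7, 4, 5, 3, 4, 2, 3, 0, 2, 1, 3, 4, 5, 6, 2, 3, 0, 2, 1, 3, 4, 5, 3, 2, 1, 3, 4, 0, 2, 3, 1],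
      [2, 3, 4, 5, 6, 0, 2, 3, 4, 5, 1, 3, 4, 2, 3, 0, 2, 1, 3, 4, 5, 6, 7, 6, 5, 4, 3, 2, 1, 3, 4, 5, 6, 0, 2, 3, 4, 5, 1, 3, 4, 2, 3, 0, 2, 1, 3, 4, 5, 6, 7],
      [1, 3, 4, 5, 6, 7, 2, 3, 4, 5, 6, 0, 2, 3, 4, 5, 1, 3, 4, 2, 3, 0, 2, 1, 3, 4, 5, 6, 7, 4, 5, 3, 4, 2, 3, 0, 2, 1, 3, 4, 5, 6, 2, 3, 0, 2, 1, 3, 4, 5, 3, 2, 1, 3, 4, 0, 2, 3, 1],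
      [2, 1, 3, 4, 5, 6, 0, 2, 3, 4, 5, 1, 3, 4, 2, 3, 0, 2, 1, 3, 4, 5, 6, 7, 6, 5, 4, 3, 2, 1, 3, 4, 5, 6, 0, 2, 3, 4, 5, 1, 3, 4, 2, 3, 0, 2, 1, 3, 4, 5, 6, 7],
      [3, 2, 1, 3, 4, 5, 6, 0, 2, 3, 4, 5, 1, 3, 4, 2, 3, 0, 2, 1, 3, 4, 5, 6, 7, 6, 5, 4, 3, 2, 1, 3, 4, 5, 6, 0, 2, 3, 4, 5, 1, 3, 4, 2, 3, 0, 2, 1, 3, 4, 5, 6, 7],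
      [4, 3, 2, 1, 3, 4, 5, 6, 0, 2, 3, 4, 5, 1, 3, 4, 2, 3, 0, 2, 1, 3, 4, 5, 6, 7, 6, 5, 4, 3, 2, 1, 3, 4, 5, 6, 0, 2, 3, 4, 5, 1, 3, 4, 2, 3, 0, 2, 1, 3, 4, 5, 6, 7],
      [5, 4, 3, 2, 1, 3, 4, 5, 6, 0, 2, 3, 4, 5, 1, 3, 4, 2, 3, 0, 2, 1, 3, 4, 5, 6, 7, 6, 5, 4, 3, 2, 1, 3, 4, 5, 6, 0, 2, 3, 4, 5, 1, 3, 4, 2, 3, 0, 2, 1, 3, 4, 5, 6, 7],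
      [6, 5, 4, 3, 2, 1, 3, 4, 5, 6, 0, 2, 3, 4, 5, 1, 3, 4, 2, 3, 0, 2, 1, 3, 4, 5, 6, 7, 6, 5, 4, 3, 2, 1, 3, 4, 5, 6, 0, 2, 3, 4, 5, 1, 3, 4, 2, 3, 0, 2, 1, 3, 4, 5, 6, 7],
      [7, 6, 5, 4, 3, 2, 1, 3, 4, 5, 6, 0, 2, 3, 4, 5, 1, 3, 4, 2, 3, 0, 2, 1, 3, 4, 5, 6, 7, 6, 5, 4, 3, 2, 1, 3, 4, 5, 6, 0, 2, 3, 4, 5, 1, 3, 4, 2, 3, 0, 2, 1, 3, 4, 5, 6, 7]]]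

theorem root_path_ok : Orbit.rootPathOK chevE8 tab cert = true := by decide +kernel

theorem pair_path_ok : Orbit.pairPathOK chevE8 tab cert = true := by decide +kernel

theorem add_ok : Orbit.addOK chevE8 tab cert = true := by decide +kernel

theorem comm_ok : Orbit.commOK chevE8 tab cert = true := by decide +kernel

theorem validC : Orbit.ValidC chevE8 tab cert := ⟨root_path_ok, pair_path_ok, add_ok, comm_ok⟩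

end CfsgLib.Chev.Data.E8
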