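import Cfsg.Agent.Lib.Chev.Engine.Orbit
import Cfsg.Agent.Lib.Chev.Data.F4

/-! Orbit certificates of type F4. -/
set_option autoImplicit false
set_option maxRecDepth 100000
open Cfsg.Lie

namespace CfsgLib.Chev.Data.F4

open CfsgLib.Chev

/-- certificate -/
def cert : Orbit.Cert where
  base := [33, 25]
  rootPath := [
    [3, 2, 1, 2, 3, 0, 1, 2],
    [2, 1, 2, 3, 0, 1, 2],
    [1, 2, 3, 0, 1, 2],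
    [0, 1, 2, 3, 1, 2, 1, 0],
    [2, 3, 0, 1, 2],
    [3, 0, 1, 2],
    [0, 1, 2],
    [1, 2, 3, 1, 2, 1, 0],
    [2, 3, 1, 2, 1, 0],
    [3, 1, 2, 1, 0],
    [1, 2, 1, 0],
    [3, 2, 1, 0],
    [2, 1, 0],
    [1, 0],
    [0],
    [2, 3, 1, 2],
    [3, 1, 2],
    [1, 2],
    [3, 2, 0, 1, 0],
    [2, 0, 1, 0],
    [0, 1, 0],
    [3, 2],
    [2],
    [2, 3, 2],
    [2, 3],
    [],
    [3],
    [0, 1],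
    [2, 0, 1],
    [3, 2, 0, 1],
    [1],
    [3, 1],
    [2, 3, 1],
    [],
    [1],
    [2, 1],
    [3, 2, 1],
    [1, 2, 1],
    [3, 1, 2, 1],
    [2, 3, 1, 2, 1],
    [1, 2, 3, 1, 2, 1],
    [0, 1],
    [3, 0, 1],
    [2, 3, 0, 1],
    [0, 1, 2, 3, 1, 2, 1],
    [1, 2, 3, 0, 1],
    [2, 1, 2, 3, 0, 1],
    [3, 2, 1, 2, 3, 0, 1]]
  pairs := [(33, 0), (33, 3), (33, 4), (33, 7), (33, 8), (33, 15), (25, 0), (25, 1), (25, 2), (25, 3), (25, 8), (25, 9)]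
  pairPath := [
    [
      [],
      [3],
      [2, 3],
      [],
      [],
      [2],
      [3, 2],
      [],
      [],
      [2],
      [3, 2],
      [1, 2, 0, 1, 2, 0, 1],
      [3, 1, 2, 0, 1, 2, 0, 1],
      [2, 3, 1, 2, 0, 1, 2, 0, 1],
      [],
      [],
      [2],
      [3, 2],
      [1, 2, 0, 1, 2, 0, 1],
      [3, 1, 2, 0, 1, 2, 0, 1],
      [2, 3, 1, 2, 0, 1, 2, 0, 1],
      [1, 2, 0, 1, 2, 3, 0, 1],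
      [3, 1, 2, 0, 1, 2, 3, 0, 1],
      [2, 1, 2, 0, 1, 2, 3, 0, 1],
      [3, 2, 1, 2, 0, 1, 2, 3, 0, 1],
      [2, 3, 1, 2, 0, 1, 2, 3, 0, 1],
      [2, 3, 2, 1, 2, 0, 1, 2, 3, 0, 1],
      [1, 2, 0, 1, 2, 3, 2, 1, 2, 0, 1],
      [2, 1, 2, 0, 1, 2, 3, 2, 1, 2, 0, 1],
      [3, 2, 1, 2, 0, 1, 2, 3, 2, 1, 2, 0, 1],
      [1, 2, 0, 1, 2, 3, 0, 1, 2],
      [3, 1, 2, 0, 1, 2, 3, 0, 1, 2],
      [2, 3, 1, 2, 0, 1, 2, 3, 0, 1, 2],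
      [],
      [1, 2, 0, 1, 2, 3, 2, 1, 2, 0, 1],
      [2, 1, 2, 0, 1, 2, 3, 2, 1, 2, 0, 1],
      [3, 2, 1, 2, 0, 1, 2, 3, 2, 1, 2, 0, 1],
      [1, 2, 0, 1, 2, 3, 0, 1, 2],
      [3, 1, 2, 0, 1, 2, 3, 0, 1, 2],
      [2, 3, 1, 2, 0, 1, 2, 3, 0, 1, 2],
      [1, 2, 0, 1, 2, 3, 2, 1, 2, 0, 1, 2, 3, 1, 2, 0, 1, 2, 0, 1],
      [1, 2, 0, 1, 2, 3, 0, 1, 2],
      [3, 1, 2, 0, 1, 2, 3, 0, 1, 2],
      [2, 3, 1, 2, 0, 1, 2, 3, 0, 1, 2],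
      [1, 2, 0, 1, 2, 3, 2, 1, 2, 0, 1, 2, 3, 1, 2, 0, 1, 2, 0, 1],
      [1, 2, 0, 1, 2, 3, 2, 1, 2, 0, 1, 2, 3],
      [2, 1, 2, 0, 1, 2, 3, 2, 1, 2, 0, 1, 2, 3],
      [3, 2, 1, 2, 0, 1, 2, 3, 2, 1, 2, 0, 1, 2, 3]],
    [
      [],
      [],
      [],
      [],
      [1, 2, 1],
      [1, 2, 1],
      [3, 2, 1, 2, 3],
      [0],
      [],
      [],
      [3, 2, 1, 2, 3, 0],
      [1, 2, 1, 0],
      [3, 2, 1, 2, 3],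
      [3, 2, 1, 2, 3],
      [3, 2, 1, 2, 3, 1, 2, 1, 0],
      [0, 1, 2, 1],
      [0, 1, 2, 1],
      [3, 2, 0, 1, 2, 3],
      [0, 1, 2, 1, 0],
      [3, 2, 0, 1, 2, 3],
      [3, 2, 0, 1, 2, 3],
      [1, 2, 0, 1, 2, 0, 1],
      [],
      [1, 2, 0, 1, 2, 0, 1],
      [3, 2, 1, 2, 3, 0, 1, 2, 1],
      [],
      [3, 2, 1, 2, 3, 0, 1, 2, 1],
      [1, 2, 3, 1, 2, 0, 1, 2, 3],
      [1, 2, 3, 1, 2, 0, 1, 2, 3],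
      [3, 2, 1, 2, 3, 0, 1, 2, 1, 0],
      [1, 2, 3, 1, 2, 0, 1, 2, 3],
      [3, 2, 1, 2, 3, 1, 2, 0, 1, 2, 0, 1],
      [3, 2, 1, 2, 3, 1, 2, 0, 1, 2, 0, 1],
      [3, 2, 0, 1, 2, 3, 1, 2, 1, 0],
      [0, 1, 2, 3, 1, 2, 0, 1, 2, 3],
      [0, 1, 2, 3, 1, 2, 0, 1, 2, 3],
      [3, 2, 0, 1, 2, 3, 0, 1, 2, 1, 0],
      [1, 2, 3, 1, 2, 0, 1, 2, 3, 1, 2, 1, 0],
      [3, 2, 1, 2, 0, 1, 2, 3, 2, 1, 2, 0, 1, 2, 3],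
      [3, 2, 1, 2, 0, 1, 2, 3, 2, 1, 2, 0, 1, 2, 3],
      [1, 2, 3, 1, 2, 0, 1, 2, 3, 0, 1, 2, 1, 0],
      [0, 1, 2, 3, 1, 2, 0, 1, 2, 3],
      [3, 2, 0, 1, 2, 3, 1, 2, 0, 1, 2, 0, 1],
      [3, 2, 0, 1, 2, 3, 1, 2, 0, 1, 2, 0, 1],
      [0, 1, 2, 3, 1, 2, 0, 1, 2, 3, 0, 1, 2, 1, 0],
      [1, 2, 3, 1, 2, 0, 1, 2, 3, 1, 2, 0, 1, 2, 0, 1],
      [1, 2, 3, 1, 2, 0, 1, 2, 3, 1, 2, 0, 1, 2, 0, 1],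
      [3, 2, 1, 2, 0, 1, 2, 3, 2, 1, 2, 0, 1, 2, 3]]]

theorem root_path_ok : Orbit.rootPathOK chevF4 tab cert = true := by decide +kernel

theorem pair_path_ok : Orbit.pairPathOK chevF4 tab cert = true := by decide +kernel

theorem add_ok : Orbit.addOK chevF4 tab cert = true := by decide +kernel

theorem comm_ok : Orbit.commOK chevF4 tab cert = true := by decide +kernel

theorem validC : Orbit.ValidC chevF4 tab cert := ⟨root_path_ok, pair_path_ok, add_ok, comm_ok⟩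

end CfsgLib.Chev.Data.F4
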